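import Mathlib
import Groth.Prelude.Def_EGA41
import Groth.Agent.Lib.Helper2.PGenerating

set_option autoImplicit false
universe u

open EGA41

namespace H5.PB

open Groth.Agent.H2.PGen (pMonomial_zero pMonomial_add pMonomial_single)

section
variable (p : ℕ) (C₀ : Type*) {B : Type u} [CommRing C₀] [CommRing B] [Algebra C₀ B]
  {ι : Type u} (x : ι → B)

/-- the `C₀`-span of the reduced monomials. -/
noncomputable def rspan : Submodule C₀ B :=
  Submodule.span C₀ (Set.range fun e : {e : ι →₀ ℕ // ∀ i, e i < p} => pMonomial x e.1)

variable {p}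

theorem one_mem_rspan (hp : 0 < p) : (1 : B) ∈ rspan p C₀ x := by
  refine Submodule.subset_span ⟨⟨0, fun i => hp⟩, ?_⟩
  exact pMonomial_zero x

theorem mul_mem_rspan (hp : 0 < p) (hx : ∀ i, x i ^ p ∈ (algebraMap C₀ B).range) (i : ι) (b : B)
    (hb : b ∈ rspan p C₀ x) : x i * b ∈ rspan p C₀ x := by
  classical
  induction hb using Submodule.span_induction with
  | mem y hy =>
    obtain ⟨⟨e, he⟩, rfl⟩ := hy
    by_cases h : e i + 1 < p
    · refine Submodule.subset_span ⟨⟨e + Finsupp.single i 1, fun j => ?_⟩, ?_⟩
      · by_cases hj : j = i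
        · subst hj
          simpa using h
        · simpa [Finsupp.single_apply, Ne.symm hj] using he j
      · show pMonomial x (e + Finsupp.single i 1) = x i * pMonomial x e
        rw [pMonomial_add, pMonomial_single, pow_one, mul_comm]
    · have hei : e i + 1 = p := by
        have := he i
        omega
      have hdecomp : e = e.erase i + Finsupp.single i (e i) := (Finsupp.erase_add_single i e).symm
      have h1 : x i * pMonomial x e = x i ^ p * pMonomial x (e.erase i) := by
        conv_lhs => rw [hdecomp, pMonomial_add, pMonomial_single]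
        rw [← hei, pow_succ]
        ring
      show x i * pMonomial x e ∈ rspan p C₀ x
      rw [h1]
      obtain ⟨c, hc⟩ := hx i
      rw [← hc, ← Algebra.smul_def]
      refine Submodule.smul_mem _ _ (Submodule.subset_span ⟨⟨e.erase i, fun j => ?_⟩, rfl⟩)
      by_cases hj : j = i
      · subst hj
        simpa using hp
      · rw [Finsupp.erase_ne hj]
        exact he j
  | zero => rw [mul_zero]; exact Submodule.zero_mem _
  | add y z _ _ hy hz => rw [mul_add]; exact Submodule.add_mem _ hy hz
  | smul c y _ hy =>
    have : x i * (c • y) = c • (x i * y) := by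
      rw [Algebra.smul_def, Algebra.smul_def]
      ring
    rw [this]
    exact Submodule.smul_mem _ _ hy

theorem pMonomial_mem_adjoin (e : ι →₀ ℕ) : pMonomial x e ∈ Algebra.adjoin C₀ (Set.range x) := by
  unfold pMonomial
  refine Subalgebra.prod_mem _ (fun i _ => ?_)
  exact Subalgebra.pow_mem _ (Algebra.subset_adjoin (Set.mem_range_self i)) _

/-- **Reduction lemma**: the span of the reduced monomials is the subalgebra generated by the `x_i`,
as soon as the `x_i^p` are constants. -/
theorem rspan_eq_adjoin (hp : 0 < p) (hx : ∀ i, x i ^ p ∈ (algebraMap C₀ B).range) :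
    rspan p C₀ x = Subalgebra.toSubmodule (Algebra.adjoin C₀ (Set.range x)) := by
  apply le_antisymm
  · refine Submodule.span_le.2 ?_
    rintro _ ⟨⟨e, -⟩, rfl⟩
    exact pMonomial_mem_adjoin C₀ x e
  · rw [Algebra.adjoin_eq_span]
    refine Submodule.span_le.2 ?_
    intro m hm
    induction hm using Submonoid.closure_induction_left with
    | one => exact one_mem_rspan C₀ x hp
    | mul_left y hy z _ hz =>
      obtain ⟨i, rfl⟩ := hy
      exact mul_mem_rspan C₀ x hp hx i z hz

end

end H5.PB
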