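import Mathlib
import Groth.Agent.Lib.Helper5.PB.PB1

set_option autoImplicit false
universe u

open EGA41 MvPolynomial

namespace H5.PB

theorem pMonomial_map {B B' : Type u} [CommRing B] [CommRing B'] {ι : Type u} (f : B →+* B')
    (x : ι → B) (e : ι →₀ ℕ) : f (pMonomial x e) = pMonomial (fun i => f (x i)) e := by
  unfold pMonomial
  rw [map_finsuppProd]
  simp only [map_pow]

section
variable (p : ℕ) {C₀ B : Type u} [CommRing C₀] [CommRing B] [Algebra C₀ B]
  {ι : Type u} (x : ι → B) (c : ι → C₀)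

/-- the relations `X_i^p - c_i`. -/
noncomputable def relIdeal : Ideal (MvPolynomial ι C₀) :=
  Ideal.span (Set.range fun i => (X i : MvPolynomial ι C₀) ^ p - C (c i))

variable {p}

theorem relIdeal_le_ker (hc : ∀ i, algebraMap C₀ B (c i) = x i ^ p) :
    relIdeal p c ≤ RingHom.ker (MvPolynomial.aeval x : MvPolynomial ι C₀ →ₐ[C₀] B) := by
  unfold relIdeal
  rw [Ideal.span_le]
  rintro _ ⟨i, rfl⟩
  rw [SetLike.mem_coe, RingHom.mem_ker, map_sub, map_pow, aeval_X, aeval_C, hc, sub_self]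

/-- the classes of the variables in the quotient. -/
noncomputable def xbar (i : ι) : MvPolynomial ι C₀ ⧸ relIdeal p c := Ideal.Quotient.mk _ (X i)

theorem xbar_pow (i : ι) :
    xbar c i ^ p = algebraMap C₀ (MvPolynomial ι C₀ ⧸ relIdeal p c) (c i) := by
  have h0 : Ideal.Quotient.mk (relIdeal p c) ((X i : MvPolynomial ι C₀) ^ p - C (c i)) = 0 :=
    Ideal.Quotient.eq_zero_iff_mem.mpr (Ideal.subset_span ⟨i, rfl⟩)
  rw [map_sub, map_pow, sub_eq_zero] at h0
  exact h0

theorem adjoin_xbar : Algebra.adjoin C₀ (Set.range (xbar (p := p) c)) = ⊤ := by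
  have h1 : Algebra.adjoin C₀ (Set.range (X : ι → MvPolynomial ι C₀)) = ⊤ :=
    MvPolynomial.adjoin_range_X
  have h2 : (Algebra.adjoin C₀ (Set.range (X : ι → MvPolynomial ι C₀))).map
      (Ideal.Quotient.mkₐ C₀ (relIdeal p c)) = ⊤ := by
    rw [h1, Algebra.map_top, AlgHom.range_eq_top]
    exact Ideal.Quotient.mkₐ_surjective C₀ _
  rw [AlgHom.map_adjoin, ← Set.range_comp] at h2
  exact h2

theorem rspan_xbar (hp : 0 < p) : rspan p C₀ (xbar (p := p) c) = ⊤ := by
  rw [rspan_eq_adjoin C₀ _ hp (fun i => ⟨c i, (xbar_pow c i).symm⟩), adjoin_xbar]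
  rfl

/-- **Presentation, kernel**: if the reduced monomials in `x` are linearly independent over `C₀` and
`x_i^p = c_i`, the kernel of `C₀[X] → B` is generated by the `X_i^p - c_i`. -/
theorem ker_aeval_eq (hp : 0 < p) (hc : ∀ i, algebraMap C₀ B (c i) = x i ^ p)
    (hLI : LinearIndependent C₀ (fun e : {e : ι →₀ ℕ // ∀ i, e i < p} => pMonomial x e.1)) :
    RingHom.ker (MvPolynomial.aeval x : MvPolynomial ι C₀ →ₐ[C₀] B) = relIdeal p c := by
  apply le_antisymm _ (relIdeal_le_ker x c hc)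
  intro f hf
  rw [RingHom.mem_ker] at hf
  let φbar : (MvPolynomial ι C₀ ⧸ relIdeal p c) →ₐ[C₀] B :=
    Ideal.Quotient.liftₐ (relIdeal p c) (MvPolynomial.aeval x) (fun a ha => relIdeal_le_ker x c hc ha)
  have hφx : ∀ i, φbar (xbar c i) = x i := fun i => by
    show φbar (Ideal.Quotient.mk _ (X i)) = x i
    simp [φbar]
  have hmem : (Ideal.Quotient.mk (relIdeal p c) f) ∈ rspan p C₀ (xbar (p := p) c) := by
    rw [rspan_xbar c hp]; exact Submodule.mem_top
  unfold rspan at hmem
  rw [Finsupp.mem_span_range_iff_exists_finsupp] at hmem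
  obtain ⟨g, hg⟩ := hmem
  have h1 : φbar (Ideal.Quotient.mk (relIdeal p c) f) = 0 := by
    show φbar (Ideal.Quotient.mk _ f) = 0
    simp [φbar, hf]
  rw [← hg, Finsupp.sum, map_sum] at h1
  have h2 : ∀ e ∈ g.support, φbar (g e • pMonomial (xbar (p := p) c) e.1) = g e • pMonomial x e.1 := by
    intro e _
    rw [map_smul]
    congr 1
    have := pMonomial_map (φbar : _ →+* B) (xbar (p := p) c) e.1
    simp only [RingHom.coe_coe, hφx] at this
    exact this
  rw [Finset.sum_congr rfl h2] at h1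
  have h3 : Finsupp.linearCombination C₀
      (fun e : {e : ι →₀ ℕ // ∀ i, e i < p} => pMonomial x e.1) g = 0 := by
    rw [Finsupp.linearCombination_apply, Finsupp.sum]
    exact h1
  have h4 := (linearIndependent_iff.mp hLI) g h3
  rw [h4] at hg
  simp only [Finsupp.sum_zero_index] at hg
  exact Ideal.Quotient.eq_zero_iff_mem.mp hg.symm

/-- **Presentation, surjectivity**. -/
theorem aeval_surjective (hsp : rspan p C₀ x = ⊤) :
    Function.Surjective (MvPolynomial.aeval x : MvPolynomial ι C₀ →ₐ[C₀] B) := by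
  intro b
  have hb : b ∈ rspan p C₀ x := by rw [hsp]; exact Submodule.mem_top
  have h1 : rspan p C₀ x ≤ Subalgebra.toSubmodule (Algebra.adjoin C₀ (Set.range x)) := by
    refine Submodule.span_le.2 ?_
    rintro _ ⟨⟨e, -⟩, rfl⟩
    exact pMonomial_mem_adjoin C₀ x e
  have h2 := h1 hb
  rw [Algebra.adjoin_range_eq_range_aeval] at h2
  exact h2

end

end H5.PB
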