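import Mathlib
import Groth.Agent.Lib.Helper5.PB.PB2

set_option autoImplicit false
universe u

open EGA41 MvPolynomial

namespace H5.PB

section
variable {p : ℕ} [hpp : Fact p.Prime] {C₀ B : Type u} [CommRing C₀] [CommRing B] [Algebra C₀ B]
  [CharP C₀ p] {ι : Type u} (x : ι → B) (c : ι → C₀)

/-- partial derivatives preserve the relation ideal in characteristic `p`. -/
theorem pderiv_mem_relIdeal (j : ι) (q : MvPolynomial ι C₀) (hq : q ∈ relIdeal p c) :
    pderiv j q ∈ relIdeal p c := by
  classical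
  unfold relIdeal at hq
  induction hq using Submodule.span_induction with
  | mem y hy =>
    obtain ⟨i, rfl⟩ := hy
    have h1 : pderiv j ((X i : MvPolynomial ι C₀) ^ p - C (c i)) = 0 := by
      rw [map_sub, Derivation.leibniz_pow, pderiv_C, sub_zero]
      have : ((p : ℕ) : MvPolynomial ι C₀) = 0 := by
        rw [← map_natCast (C : C₀ →+* MvPolynomial ι C₀), CharP.cast_eq_zero, map_zero]
      rw [← Nat.cast_smul_eq_nsmul (MvPolynomial ι C₀), this, zero_smul]
    rw [h1]
    exact Ideal.zero_mem _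
  | zero => rw [map_zero]; exact Ideal.zero_mem _
  | add y z _ _ hy hz => rw [map_add]; exact Ideal.add_mem _ hy hz
  | smul a y hy ih =>
    rw [smul_eq_mul, Derivation.leibniz]
    refine Ideal.add_mem _ (Ideal.mul_mem_left _ _ ih) ?_
    rw [smul_eq_mul]
    exact Ideal.mul_mem_right _ _ hy

variable (hc : ∀ i, algebraMap C₀ B (c i) = x i ^ p)
  (hLI : LinearIndependent C₀ (fun e : {e : ι →₀ ℕ // ∀ i, e i < p} => pMonomial x e.1))
  (hsp : rspan p C₀ x = ⊤)

include hc hLI in
theorem aeval_pderiv_eq_zero (j : ι) (q : MvPolynomial ι C₀)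
    (hq : (MvPolynomial.aeval x : MvPolynomial ι C₀ →ₐ[C₀] B) q = 0) :
    (MvPolynomial.aeval x : MvPolynomial ι C₀ →ₐ[C₀] B) (pderiv j q) = 0 := by
  have h1 : q ∈ RingHom.ker (MvPolynomial.aeval x : MvPolynomial ι C₀ →ₐ[C₀] B) := hq
  rw [ker_aeval_eq x c hpp.out.pos hc hLI] at h1
  have h2 := pderiv_mem_relIdeal c j q h1
  rw [← ker_aeval_eq x c hpp.out.pos hc hLI] at h2
  exact h2

/-- the partial derivative `∂/∂x_j` on `B`. -/
noncomputable def partialD (j : ι) : Derivation C₀ B B :=
  Derivation.liftOfSurjective (f := (MvPolynomial.aeval x : MvPolynomial ι C₀ →ₐ[C₀] B))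
    (aeval_surjective x hsp) (d := pderiv j) (aeval_pderiv_eq_zero x c hc hLI j)

theorem partialD_apply [DecidableEq ι] (j i : ι) :
    partialD x c hc hLI hsp j (x i) = if j = i then 1 else 0 := by
  have h1 : x i = (MvPolynomial.aeval x : MvPolynomial ι C₀ →ₐ[C₀] B) (X i) := (aeval_X x i).symm
  unfold partialD
  conv_lhs => rw [h1]
  rw [Derivation.liftOfSurjective_apply, pderiv_X]
  by_cases hji : j = i
  · subst hji
    simp
  · simp [hji]

end

end H5.PB
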