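import Mathlib
import Groth.Agent.Lib.Helper5.PB.PB3

set_option autoImplicit false
universe u

open EGA41 MvPolynomial

namespace H5.PB

section
variable (p : ℕ) [hpp : Fact p.Prime] {A B : Type u} [CommRing A] [CommRing B] [Algebra A B]
  [CharP B p] {ι : Type u} (x : ι → B)

instance charP_pPowerSubalgebra : CharP (pPowerSubalgebra p A B) p :=
  (RingHom.charP_iff (pPowerSubalgebra p A B).val.toRingHom Subtype.val_injective p).mpr
    inferInstance

/-- the constants `x_i^p`. -/
noncomputable def cc (i : ι) : pPowerSubalgebra p A B :=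
  ⟨x i ^ p, Groth.Agent.H2.PGen.pow_p_mem p (x i)⟩

theorem cc_spec (i : ι) : algebraMap (pPowerSubalgebra p A B) B (cc p x i) = x i ^ p := rfl

theorem linearIndependent_D (hx : IsPBasis p A x) :
    LinearIndependent B (fun i => KaehlerDifferential.D A B (x i)) := by
  classical
  obtain ⟨hLI, hsp⟩ := hx
  have hsp' : rspan p (pPowerSubalgebra p A B) x = ⊤ := hsp
  rw [linearIndependent_iff']
  intro s g hg j hj
  let dj : Derivation A B B :=
    (partialD x (cc p x) (cc_spec p x) hLI hsp' j).restrictScalars A
  have h1 := congrArg dj.liftKaehlerDifferential hg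
  rw [map_sum, map_zero] at h1
  have h2 : ∀ i ∈ s, dj.liftKaehlerDifferential (g i • KaehlerDifferential.D A B (x i)) =
      if j = i then g i else 0 := by
    intro i _
    rw [map_smul, Derivation.liftKaehlerDifferential_comp_D]
    show g i • (partialD x (cc p x) (cc_spec p x) hLI hsp' j) (x i) = _
    rw [partialD_apply]
    split_ifs <;> simp
  rw [Finset.sum_congr rfl h2, Finset.sum_ite_eq s j] at h1
  simpa [hj] using h1

theorem main2466 (hx : IsPBasis p A x) :
    ∃ b : Module.Basis ι B (Ω[B⁄A]), ∀ i, b i = KaehlerDifferential.D A B (x i) := by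
  have hli := linearIndependent_D p x hx
  have hsp := Groth.Agent.H2.PGen.span_D_eq_top_of_isPGenerating p x hx.2
  refine ⟨Module.Basis.mk hli hsp.ge, fun i => ?_⟩
  rw [Module.Basis.mk_apply]

end

end H5.PB
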