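import Mathlib
import Groth.Agent.Lib.Helper5.PB.PB4

set_option autoImplicit false
universe u

open EGA41 MvPolynomial

namespace H5.PB

section
variable (p : ℕ) [hpp : Fact p.Prime] {A B : Type u} [CommRing A] [CommRing B] [Algebra A B]
  {ι : Type u} (x : ι → B)

/-- when `B^p ⊆ A`, the subalgebra `A[B^p]` is the image of `A`. -/
theorem mem_pPowerSubalgebra_iff (hpow : ∀ b : B, b ^ p ∈ Set.range (algebraMap A B)) (b : B) :
    b ∈ pPowerSubalgebra p A B ↔ b ∈ Set.range (algebraMap A B) := by
  constructor
  · intro hb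
    have hle : pPowerSubalgebra p A B ≤ (Algebra.ofId A B).range := by
      unfold pPowerSubalgebra
      rw [Algebra.adjoin_le_iff]
      rintro _ ⟨b, rfl⟩
      obtain ⟨a, ha⟩ := hpow b
      exact ⟨a, ha⟩
    obtain ⟨a, ha⟩ := hle hb
    exact ⟨a, ha⟩
  · rintro ⟨a, rfl⟩
    exact Subalgebra.algebraMap_mem _ a

/-- `p`-independence over `A[B^p]` gives linear independence over `A` when `A → B` is injective. -/
theorem linearIndependent_base (hinj : Function.Injective (algebraMap A B))
    (hLI : IsPIndependent p A x) :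
    LinearIndependent A (fun e : {e : ι →₀ ℕ // ∀ i, e i < p} => pMonomial x e.1) := by
  have h1 : LinearIndependent (pPowerSubalgebra p A B)
      (fun e : {e : ι →₀ ℕ // ∀ i, e i < p} => pMonomial x e.1) := hLI
  refine LinearIndependent.restrict_scalars (R := A) (K := pPowerSubalgebra p A B) ?_ h1
  intro a b hab
  apply hinj
  have := congrArg (fun c : pPowerSubalgebra p A B => (c : B)) hab
  simpa [Algebra.smul_def] using this

theorem rspan_base (hpow : ∀ b : B, b ^ p ∈ Set.range (algebraMap A B))
    (hsp : IsPGenerating p A x) : rspan p A x = ⊤ := by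
  have key : ∀ b : B, b ∈ Submodule.span (pPowerSubalgebra p A B)
      (Set.range fun e : {e : ι →₀ ℕ // ∀ i, e i < p} => pMonomial x e.1) → b ∈ rspan p A x := by
    intro b hb
    induction hb using Submodule.span_induction with
    | mem y hy => exact Submodule.subset_span hy
    | zero => exact Submodule.zero_mem _
    | add y z _ _ hy hz => exact Submodule.add_mem _ hy hz
    | smul c y _ hy =>
      obtain ⟨a, ha⟩ := (mem_pPowerSubalgebra_iff p hpow c.1).mp c.2
      have h1 : c • y = a • y := by
        show (c : B) * y = a • y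
        rw [← ha, Algebra.smul_def]
      rw [h1]
      exact Submodule.smul_mem _ _ hy
  rw [eq_top_iff]
  intro b _
  apply key
  have h : Submodule.span (pPowerSubalgebra p A B)
    (Set.range fun e : {e : ι →₀ ℕ // ∀ i, e i < p} => pMonomial x e.1) = ⊤ := hsp
  rw [h]; exact Submodule.mem_top

end

section main
variable (p : ℕ) [hpp : Fact p.Prime] {A B : Type u} [CommRing A] [CommRing B] [Algebra A B]
  [CharP B p] (hinj : Function.Injective (algebraMap A B))
  (hpow : ∀ b : B, b ^ p ∈ Set.range (algebraMap A B))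
  {ι : Type u} (x : ι → B) (hx : IsPBasis p A x)
  {E : Type u} [CommRing E] [Algebra A E] (q : E →ₐ[A] B)

include hinj in
theorem charP_base : CharP A p :=
  (RingHom.charP_iff (algebraMap A B) hinj p).mpr inferInstance

include hinj in
theorem natCast_eq_zero_of_base : ((p : ℕ) : E) = 0 := by
  haveI := charP_base p hinj
  rw [← map_natCast (algebraMap A E), CharP.cast_eq_zero, map_zero]

include hinj hpow hx in
/-- existence and uniqueness of the algebra map with prescribed values on a `p`-basis. -/
theorem exists_unique_algHom (z : ι → E)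
    (hz : ∀ (i : ι) (a : A), algebraMap A B a = x i ^ p → algebraMap A E a = z i ^ p) :
    ∃! v : B →ₐ[A] E, ∀ i, v (x i) = z i := by
  have hLI := linearIndependent_base p x hinj hx.1
  have hsp := rspan_base p x hpow hx.2
  choose a ha using fun i => hpow (x i)
  have hker := ker_aeval_eq x a hpp.out.pos ha hLI
  have hsurj := aeval_surjective x hsp
  have hle : RingHom.ker (MvPolynomial.aeval x : MvPolynomial ι A →ₐ[A] B).toRingHom ≤
      RingHom.ker (MvPolynomial.aeval z : MvPolynomial ι A →ₐ[A] E).toRingHom := by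
    have h1 : RingHom.ker (MvPolynomial.aeval x : MvPolynomial ι A →ₐ[A] B).toRingHom =
        relIdeal p a := hker
    rw [h1]
    exact relIdeal_le_ker z a (fun i => hz i (a i) (ha i))
  refine ⟨AlgHom.liftOfSurjective _ hsurj _ hle, fun i => ?_, fun v hv => ?_⟩
  · have h1 : x i = (MvPolynomial.aeval x : MvPolynomial ι A →ₐ[A] B) (X i) := (aeval_X x i).symm
    conv_lhs => rw [h1]
    rw [AlgHom.liftOfSurjective_apply, aeval_X]
  · apply AlgHom.ext
    intro b
    obtain ⟨f, rfl⟩ := hsurj b
    rw [AlgHom.liftOfSurjective_apply]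
    have h2 : v.comp (MvPolynomial.aeval x : MvPolynomial ι A →ₐ[A] B) =
        (MvPolynomial.aeval z : MvPolynomial ι A →ₐ[A] E) := by
      apply MvPolynomial.algHom_ext
      intro i
      rw [AlgHom.comp_apply, aeval_X, aeval_X, hv]
    exact congr($h2 f)

include hinj hpow hx in
/-- two `A`-algebra maps out of `B` agreeing on a `p`-basis are equal. -/
theorem algHom_ext_of_pBasis {E' : Type u} [CommRing E'] [Algebra A E'] (v₁ v₂ : B →ₐ[A] E')
    (h : ∀ i, v₁ (x i) = v₂ (x i)) : v₁ = v₂ := by
  have hsp := rspan_base p x hpow hx.2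
  have hsurj := aeval_surjective (C₀ := A) x hsp
  apply AlgHom.ext
  intro b
  obtain ⟨f, rfl⟩ := hsurj b
  have h2 : v₁.comp (MvPolynomial.aeval x : MvPolynomial ι A →ₐ[A] B) =
      v₂.comp (MvPolynomial.aeval x : MvPolynomial ι A →ₐ[A] B) := by
    apply MvPolynomial.algHom_ext
    intro i
    rw [AlgHom.comp_apply, AlgHom.comp_apply, aeval_X, h]
  exact congr($h2 f)

include hinj hpow hx in
theorem main2464 (hq : Function.Surjective q) (hK : RingHom.ker q.toRingHom ^ p = ⊥) :
    ((∃ v : B →ₐ[A] E, q.comp v = AlgHom.id A B) ↔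
      ∀ (z : E) (a : A), algebraMap A B a = q z ^ p → algebraMap A E a = z ^ p) ∧
    ((∀ (z : E) (a : A), algebraMap A B a = q z ^ p → algebraMap A E a = z ^ p) →
      ∀ z : ι → E, (∀ i, q (z i) = x i) →
        (∃! v : B →ₐ[A] E, ∀ i, v (x i) = z i) ∧
          ∀ v : B →ₐ[A] E, (∀ i, v (x i) = z i) → q.comp v = AlgHom.id A B) := by
  have hpart2 : (∀ (z : E) (a : A), algebraMap A B a = q z ^ p → algebraMap A E a = z ^ p) →
      ∀ z : ι → E, (∀ i, q (z i) = x i) →
        (∃! v : B →ₐ[A] E, ∀ i, v (x i) = z i) ∧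
          ∀ v : B →ₐ[A] E, (∀ i, v (x i) = z i) → q.comp v = AlgHom.id A B := by
    intro H z hz
    refine ⟨exists_unique_algHom p hinj hpow x hx z (fun i a ha => H (z i) a (by rw [ha, hz])), ?_⟩
    intro v hv
    apply algHom_ext_of_pBasis p hinj hpow x hx
    intro i
    rw [AlgHom.comp_apply, hv, hz, AlgHom.id_apply]
  refine ⟨⟨?_, ?_⟩, hpart2⟩
  · rintro ⟨v, hv⟩ z a ha
    have hp0 : ((p : ℕ) : E) = 0 := natCast_eq_zero_of_base p hinj
    set w := v (q z) with hw
    have hqw : q w = q z := by
      have := congr($hv (q z))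
      simpa using this
    have hmem : z - w ∈ RingHom.ker q.toRingHom := by
      rw [RingHom.mem_ker]
      show q (z - w) = 0
      rw [map_sub, hqw, sub_self]
    have hpow0 : (z - w) ^ p = 0 := by
      have := Ideal.pow_mem_pow hmem p
      rwa [hK, Ideal.mem_bot] at this
    obtain ⟨r, hr⟩ := exists_add_pow_prime_eq hpp.out w (z - w)
    have hz : z ^ p = w ^ p := by
      have : z = w + (z - w) := by ring
      conv_lhs => rw [this]
      rw [hr, hpow0, hp0]
      ring
    rw [hz, hw, ← map_pow, ← ha, AlgHom.commutes]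
  · intro H
    choose z hz using fun i => hq (x i)
    obtain ⟨⟨v, hv, -⟩, hsec⟩ := hpart2 H z hz
    exact ⟨v, hsec v hv⟩

end main

end H5.PB
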