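import Mathlib
import Groth.Agent.Lib.Helper5.PB.PB5

set_option autoImplicit false
universe u

open EGA41 MvPolynomial TrivSqZeroExt

namespace H5.PB

section
variable {A B : Type u} [CommRing A] [CommRing B] [Algebra A B] (L : Type u) [AddCommGroup L]
  [Module B L] [Module A L] [IsScalarTower A B L]

/-- the opposite module structure, for `TrivSqZeroExt`. -/
@[reducible] noncomputable def opMod : Module Bᵐᵒᵖ L :=
  Module.compHom _ ((RingHom.id B).fromOpposite mul_comm)

attribute [local instance] opMod

theorem isCentralScalar_opMod : IsCentralScalar B L := ⟨fun _ _ => rfl⟩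

attribute [local instance] isCentralScalar_opMod

variable {L}

/-- the ring map `a ↦ (a, D a)`. -/
noncomputable def rho (D : Derivation ℤ A L) : A →+* TrivSqZeroExt B L where
  toFun a := (algebraMap A B a, D a)
  map_one' := by
    apply TrivSqZeroExt.ext
    · simp
    · simp
  map_mul' a b := by
    apply TrivSqZeroExt.ext
    · simp
    · show D (a * b) = algebraMap A B a • D b + MulOpposite.op (algebraMap A B b) • D a
      rw [Derivation.leibniz, algebraMap_smul]
      congr 1
      show b • D a = algebraMap A B b • D a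
      rw [algebraMap_smul]
  map_zero' := by
    apply TrivSqZeroExt.ext
    · simp
    · simp
  map_add' a b := by
    apply TrivSqZeroExt.ext
    · simp
    · simp

theorem fst_rho (D : Derivation ℤ A L) (a : A) : (rho (B := B) D a).fst = algebraMap A B a := rfl
theorem snd_rho (D : Derivation ℤ A L) (a : A) : (rho (B := B) D a).snd = D a := rfl

variable (B) in
/-- `TrivSqZeroExt B L` with the `A`-algebra structure `a ↦ (a, D a)`. -/
def EE (_D : Derivation ℤ A L) : Type u := TrivSqZeroExt B L

noncomputable instance (D : Derivation ℤ A L) : CommRing (EE B D) :=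
  inferInstanceAs (CommRing (TrivSqZeroExt B L))

noncomputable instance (D : Derivation ℤ A L) : Algebra A (EE B D) :=
  (rho (B := B) D).toAlgebra

theorem algebraMap_EE (D : Derivation ℤ A L) (a : A) :
    algebraMap A (EE B D) a = (rho (B := B) D a : TrivSqZeroExt B L) := rfl

/-- the projection. -/
noncomputable def qE (D : Derivation ℤ A L) : EE B D →ₐ[A] B where
  toFun z := TrivSqZeroExt.fst (z : TrivSqZeroExt B L)
  map_one' := TrivSqZeroExt.fst_one
  map_mul' z w := TrivSqZeroExt.fst_mul (z : TrivSqZeroExt B L) w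
  map_zero' := TrivSqZeroExt.fst_zero
  map_add' z w := TrivSqZeroExt.fst_add (z : TrivSqZeroExt B L) w
  commutes' _ := rfl

/-- the algebra map attached to a derivation extending `D`. -/
noncomputable def vOf (D : Derivation ℤ A L) (D' : Derivation ℤ B L)
    (h : ∀ a : A, D' (algebraMap A B a) = D a) : B →ₐ[A] EE B D where
  toFun b := ((b, D' b) : TrivSqZeroExt B L)
  map_one' := by
    apply TrivSqZeroExt.ext
    · rfl
    · show D' 1 = 0
      exact D'.map_one_eq_zero
  map_mul' b c := by
    apply TrivSqZeroExt.ext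
    · rfl
    · show D' (b * c) = b • D' c + MulOpposite.op c • D' b
      rw [Derivation.leibniz]
      rfl
  map_zero' := by
    apply TrivSqZeroExt.ext
    · rfl
    · show D' 0 = 0
      exact map_zero D'
  map_add' b c := by
    apply TrivSqZeroExt.ext
    · rfl
    · show D' (b + c) = D' b + D' c
      exact map_add D' b c
  commutes' a := by
    apply TrivSqZeroExt.ext
    · rfl
    · exact h a

theorem snd_vOf (D : Derivation ℤ A L) (D' : Derivation ℤ B L)
    (h : ∀ a : A, D' (algebraMap A B a) = D a) (b : B) :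
    TrivSqZeroExt.snd (vOf D D' h b : TrivSqZeroExt B L) = D' b := rfl

/-- the derivation attached to a section. -/
noncomputable def dOf (D : Derivation ℤ A L) (v : B →ₐ[A] EE B D)
    (hv : ∀ b, TrivSqZeroExt.fst (v b : TrivSqZeroExt B L) = b) : Derivation ℤ B L where
  toLinearMap := (AddMonoidHom.toIntLinearMap
    { toFun := fun b => TrivSqZeroExt.snd (v b : TrivSqZeroExt B L)
      map_zero' := by rw [map_zero]; rfl
      map_add' := fun b c => by rw [map_add]; rfl })
  map_one_eq_zero' := by
    show TrivSqZeroExt.snd (v 1 : TrivSqZeroExt B L) = 0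
    rw [map_one]; rfl
  leibniz' b c := by
    show TrivSqZeroExt.snd (v (b * c) : TrivSqZeroExt B L) =
      b • TrivSqZeroExt.snd (v c : TrivSqZeroExt B L) + c • TrivSqZeroExt.snd (v b : TrivSqZeroExt B L)
    rw [map_mul]
    have := TrivSqZeroExt.snd_mul (v b : TrivSqZeroExt B L) (v c : TrivSqZeroExt B L)
    rw [hv b, hv c] at this
    exact this

theorem dOf_apply (D : Derivation ℤ A L) (v : B →ₐ[A] EE B D)
    (hv : ∀ b, TrivSqZeroExt.fst (v b : TrivSqZeroExt B L) = b) (b : B) :
    dOf D v hv b = TrivSqZeroExt.snd (v b : TrivSqZeroExt B L) := rfl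

end

section main
variable (p : ℕ) [hpp : Fact p.Prime] {A B : Type u} [CommRing A] [CommRing B] [Algebra A B]
  [CharP B p] (hinj : Function.Injective (algebraMap A B))
  (hpow : ∀ b : B, b ^ p ∈ Set.range (algebraMap A B))
  {ι : Type u} (x : ι → B) (hx : IsPBasis p A x)
  (L : Type u) [AddCommGroup L] [Module B L] [Module A L] [IsScalarTower A B L]
  (D : Derivation ℤ A L)

attribute [local instance] opMod isCentralScalar_opMod

include hinj hpow hx in
theorem main2465 :
    ((∃ D' : Derivation ℤ B L, ∀ a : A, D' (algebraMap A B a) = D a) ↔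
      ∀ (a : A) (b : B), algebraMap A B a = b ^ p → D a = 0) ∧
    ((∀ (a : A) (b : B), algebraMap A B a = b ^ p → D a = 0) →
      ∀ y : ι → L, ∃! D' : Derivation ℤ B L,
        (∀ a : A, D' (algebraMap A B a) = D a) ∧ ∀ i, D' (x i) = y i) := by
  have hpL : ∀ l : L, (p : ℕ) • l = 0 := by
    intro l
    rw [← Nat.cast_smul_eq_nsmul B p l, CharP.cast_eq_zero, zero_smul]
  have key : (∀ (a : A) (b : B), algebraMap A B a = b ^ p → D a = 0) →
      ∀ y : ι → L, ∃! D' : Derivation ℤ B L,
        (∀ a : A, D' (algebraMap A B a) = D a) ∧ ∀ i, D' (x i) = y i := by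
    intro H y
    let z : ι → EE B D := fun i => ((x i, y i) : TrivSqZeroExt B L)
    have hz : ∀ (i : ι) (a : A), algebraMap A B a = x i ^ p →
        algebraMap A (EE B D) a = z i ^ p := by
      intro i a ha
      apply TrivSqZeroExt.ext
      · have h1 := TrivSqZeroExt.fst_pow (R := B) (M := L) ((x i, y i) : TrivSqZeroExt B L) p
        exact ha.trans h1.symm
      · have h1 := TrivSqZeroExt.snd_pow (R := B) (M := L) ((x i, y i) : TrivSqZeroExt B L) p
        rw [hpL] at h1
        exact (H a (x i) ha).trans h1.symm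
    obtain ⟨v, hv, hvu⟩ := exists_unique_algHom p hinj hpow x hx z hz
    have hq : (qE D).comp v = AlgHom.id A B :=
      algHom_ext_of_pBasis p hinj hpow x hx _ _ (fun i => by
        rw [AlgHom.comp_apply, hv]; rfl)
    have hfst : ∀ b, TrivSqZeroExt.fst (v b : TrivSqZeroExt B L) = b := fun b => congr($hq b)
    refine ⟨dOf D v hfst, ⟨?_, ?_⟩, ?_⟩
    · intro a
      rw [dOf_apply, v.commutes]; rfl
    · intro i
      rw [dOf_apply, hv]; rfl
    · rintro D₂ ⟨h1, h2⟩
      have h3 : vOf D D₂ h1 = v := hvu _ (fun i => by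
        apply TrivSqZeroExt.ext
        · rfl
        · exact h2 i)
      apply Derivation.ext
      intro b
      rw [dOf_apply, ← h3]; rfl
  refine ⟨⟨?_, ?_⟩, key⟩
  · rintro ⟨D', hD'⟩ a b hab
    rw [← hD', hab, Derivation.leibniz_pow, hpL]
  · intro H
    obtain ⟨D', ⟨h1, _⟩, _⟩ := key H (fun _ => 0)
    exact ⟨D', h1⟩

end main

end H5.PB
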