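import Mathlib
import Groth.Agent.Lib.Helper5.PB.PB6

set_option autoImplicit false
universe u

open EGA41

namespace H5.PB

open Groth.Agent.H2.PGen (pMonomial_zero pMonomial_add pMonomial_single pow_p_mem)

section powLI
variable (p : ℕ) [hpp : Fact p.Prime] {K : Type u} [Field K] [CharP K p]

/-- if `s ∉ F` and `s ^ p ∈ F` then `1, s, …, s^(p-1)` are linearly independent over `F`. -/
theorem linearIndependent_pow_of_notMem (F : Subfield K) (s : K) (hs : s ∉ F) (hsp : s ^ p ∈ F) :
    LinearIndependent F (fun j : Fin p => s ^ (j : ℕ)) := by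
  have hirr : Irreducible (Polynomial.X ^ p - Polynomial.C (⟨s ^ p, hsp⟩ : F)) := by
    apply X_pow_sub_C_irreducible_of_prime hpp.out
    intro b hb
    apply hs
    have h1 : (b : K) ^ p = s ^ p := congrArg Subtype.val hb
    have h2 : ((b : K) - s) ^ p = 0 := by rw [sub_pow_char, h1, sub_self]
    have h3 : (b : K) = s := sub_eq_zero.mp (pow_eq_zero_iff hpp.out.ne_zero |>.mp h2)
    rw [← h3]; exact b.2
  have hmonic : (Polynomial.X ^ p - Polynomial.C (⟨s ^ p, hsp⟩ : F)).Monic :=
    Polynomial.monic_X_pow_sub_C _ hpp.out.ne_zero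
  have hroot : Polynomial.aeval s (Polynomial.X ^ p - Polynomial.C (⟨s ^ p, hsp⟩ : F)) = 0 := by
    rw [map_sub, map_pow, Polynomial.aeval_X, Polynomial.aeval_C]
    exact sub_self _
  have hmin := minpoly.eq_of_irreducible_of_monic hirr hroot hmonic
  have hdeg : (minpoly F s).natDegree = p := by
    rw [← hmin, Polynomial.natDegree_X_pow_sub_C]
  have h := linearIndependent_pow (K := F) s
  rw [← linearIndependent_equiv (finCongr hdeg)]
  exact h

/-- a subring containing all `p`-th powers is a subfield. -/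
def subfieldOfPow (R : Subring K) (hR : ∀ y : K, y ^ p ∈ R) : Subfield K :=
  { R with
    inv_mem' := fun y hy => by
      by_cases h0 : y = 0
      · subst h0; rw [inv_zero]; exact R.zero_mem
      · have h1 : y⁻¹ = y ^ (p - 1) * (y⁻¹) ^ p := by
          have h2 : y ^ p = y ^ (p - 1) * y := by
            rw [← pow_succ, Nat.sub_add_cancel hpp.out.one_le]
          rw [inv_pow, h2, mul_inv, ← mul_assoc, mul_inv_cancel₀ (pow_ne_zero _ h0), one_mul]
        rw [h1]
        exact R.mul_mem (R.pow_mem hy _) (hR _) }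

theorem mem_subfieldOfPow (R : Subring K) (hR : ∀ y : K, y ^ p ∈ R) (y : K) :
    y ∈ subfieldOfPow p R hR ↔ y ∈ R := Iff.rfl

end powLI

section defs
variable (p : ℕ) (k : Type u) {K : Type u} [CommRing k] [CommRing K] [Algebra k K]
  {ι : Type u} (x : ι → K)

/-- reduced exponent vectors supported in `J`. -/
def MM (J : Set ι) : Set (ι →₀ ℕ) := {e | (∀ i, e i < p) ∧ (e.support : Set ι) ⊆ J}

/-- `p`-freeness of the subfamily indexed by `J`. -/
def PFon (J : Set ι) : Prop := LinearIndepOn (pPowerSubalgebra p k K) (pMonomial x) (MM p J)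

variable {p} in
theorem MM_mono {J J' : Set ι} (h : J ⊆ J') : MM p J ⊆ MM p J' :=
  fun _ he => ⟨he.1, he.2.trans h⟩

theorem pMonomial_mem_adjoin_image {R : Type*} [CommRing R] [Algebra R K] (J : Set ι)
    (e : ι →₀ ℕ) (he : (e.support : Set ι) ⊆ J) :
    pMonomial x e ∈ Algebra.adjoin R (x '' J) := by
  unfold pMonomial
  refine Subalgebra.prod_mem _ (fun i hi => ?_)
  exact Subalgebra.pow_mem _ (Algebra.subset_adjoin (Set.mem_image_of_mem x (he hi))) _

end defs


section exchange
variable (p : ℕ) [hpp : Fact p.Prime] (k : Type u) {K : Type u} [Field k] [Field K] [Algebra k K]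
  [CharP K p] {ι : Type u} (x : ι → K)

theorem pMonomial_eq_erase_mul (i : ι) (e : ι →₀ ℕ) :
    pMonomial x e = pMonomial x (e.erase i) * x i ^ e i := by
  conv_lhs => rw [← Finsupp.erase_add_single i e, pMonomial_add, pMonomial_single]

/-- **Exchange lemma**: if `(x_j)_{j ∈ J}` is `p`-free and `x_i ∉ k(K^p)[x_J]`, then
`(x_j)_{j ∈ J ∪ {i}}` is `p`-free. -/
theorem exchange (J : Set ι) (i : ι) (hi : i ∉ J) (hJ : PFon p k x J)
    (hs : x i ∉ Algebra.adjoin (pPowerSubalgebra p k K) (x '' J)) :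
    PFon p k x (insert i J) := by
  classical
  set C := pPowerSubalgebra p k K with hC
  set F₀ : Subalgebra C K := Algebra.adjoin C (x '' J) with hF₀
  have hpowF : ∀ y : K, y ^ p ∈ F₀.toSubring := fun y =>
    F₀.algebraMap_mem (⟨y ^ p, pow_p_mem p y⟩ : C)
  set F : Subfield K := subfieldOfPow p F₀.toSubring hpowF with hF
  let φ : C →+* F :=
    { toFun := fun c => ⟨c.1, F₀.algebraMap_mem c⟩
      map_one' := rfl
      map_mul' := fun _ _ => rfl
      map_zero' := rfl
      map_add' := fun _ _ => rfl }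
  letI : Algebra C F := φ.toAlgebra
  haveI : IsScalarTower C F K := IsScalarTower.of_algebraMap_eq (fun c => rfl)
  let b : MM p J → F := fun m => ⟨pMonomial x m.1, pMonomial_mem_adjoin_image x J m.1 m.2.2⟩
  have hb : LinearIndependent C b := by
    refine LinearIndependent.of_comp (IsScalarTower.toAlgHom C F K).toLinearMap ?_
    exact hJ
  have hc : LinearIndependent F (fun j : Fin p => x i ^ (j : ℕ)) :=
    linearIndependent_pow_of_notMem p F (x i) hs (hpowF (x i))
  have hbc := linearIndependent_smul hb hc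
  let h : MM p (insert i J) → MM p J × Fin p := fun m =>
    (⟨m.1.erase i, fun j => by
        by_cases hj : j = i
        · subst hj; rw [Finsupp.erase_same]; exact hpp.out.pos
        · rw [Finsupp.erase_ne hj]; exact m.2.1 j,
      fun j hj => by
        rw [Finset.mem_coe, Finsupp.support_erase, Finset.mem_erase] at hj
        exact (Set.mem_insert_iff.mp (m.2.2 hj.2)).resolve_left hj.1⟩, ⟨m.1 i, m.2.1 i⟩)
  have hinj : Function.Injective h := by
    intro m m' hmm
    have h1 : m.1.erase i = m'.1.erase i := congrArg (fun q => q.1.1) hmm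
    have h2 : m.1 i = m'.1 i := congrArg (fun q => q.2.1) hmm
    apply Subtype.ext
    rw [← Finsupp.erase_add_single i m.1, ← Finsupp.erase_add_single i m'.1, h1, h2]
  have := hbc.comp h hinj
  have h5 : (fun m : MM p (insert i J) => pMonomial x m.1) =
      (fun q : MM p J × Fin p => b q.1 • (x i ^ (q.2 : ℕ))) ∘ h := by
    funext m
    show pMonomial x m.1 = (pMonomial x (m.1.erase i)) * x i ^ (m.1 i)
    exact pMonomial_eq_erase_mul x i m.1
  show LinearIndependent C (fun m : MM p (insert i J) => pMonomial x m.1)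
  rw [h5]
  exact this

end exchange


section zorn
variable (p : ℕ) [hpp : Fact p.Prime] (k : Type u) {K : Type u} [Field k] [Field K] [Algebra k K]
  [CharP K p] {ι : Type u} (x : ι → K)

omit hpp [CharP K p] in
theorem PFon_sUnion (c : Set (Set ι)) (hc : IsChain (· ⊆ ·) c) (hne : c.Nonempty)
    (h : ∀ J ∈ c, PFon p k x J) : PFon p k x (⋃₀ c) := by
  have h1 : MM p (⋃₀ c) = ⋃ J : c, MM p J.1 := by
    apply Set.Subset.antisymm
    · intro e he
      obtain ⟨t, htc, ht⟩ := DirectedOn.exists_mem_subset_of_finite_of_subset_sUnion hne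
        hc.directedOn (Finset.finite_toSet e.support) he.2
      exact Set.mem_iUnion.mpr ⟨⟨t, htc⟩, he.1, ht⟩
    · intro e he
      obtain ⟨J, hJ⟩ := Set.mem_iUnion.mp he
      exact MM_mono (Set.subset_sUnion_of_mem J.2) hJ
  unfold PFon
  rw [h1]
  apply linearIndepOn_iUnion_of_directed
  · intro J J'
    rcases hc.total J.2 J'.2 with h2 | h2
    · exact ⟨J', MM_mono h2, le_rfl⟩
    · exact ⟨J, le_rfl, MM_mono h2⟩
  · intro J
    exact h J.1 J.2

/-- maximal `p`-free subfamilies between `J₀` and `T`. -/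
theorem exists_maximal_PFon (J₀ T : Set ι) (h₀ : J₀ ⊆ T) (hJ₀ : PFon p k x J₀) :
    ∃ J, J₀ ⊆ J ∧ J ⊆ T ∧ PFon p k x J ∧
      ∀ t ∈ T, x t ∈ Algebra.adjoin (pPowerSubalgebra p k K) (x '' J) := by
  have hz : ∀ c ⊆ {J | J ⊆ T ∧ PFon p k x J}, IsChain (· ⊆ ·) c → c.Nonempty →
      ∃ ub ∈ {J | J ⊆ T ∧ PFon p k x J}, ∀ s ∈ c, s ⊆ ub := by
    intro c hcS hc hne
    exact ⟨⋃₀ c, ⟨Set.sUnion_subset (fun J hJ => (hcS hJ).1),
      PFon_sUnion p k x c hc hne (fun J hJ => (hcS hJ).2)⟩,
      fun s hs => Set.subset_sUnion_of_mem hs⟩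
  obtain ⟨J, hJ₀J, hmax⟩ := zorn_subset_nonempty {J | J ⊆ T ∧ PFon p k x J} hz J₀ ⟨h₀, hJ₀⟩
  refine ⟨J, hJ₀J, hmax.prop.1, hmax.prop.2, fun t ht => ?_⟩
  by_contra hnot
  have htJ : t ∉ J := fun h => hnot (Algebra.subset_adjoin (Set.mem_image_of_mem x h))
  have h1 := exchange p k x J t htJ hmax.prop.2 hnot
  have h2 : insert t J ⊆ J :=
    hmax.le_of_ge ⟨Set.insert_subset ht hmax.prop.1, h1⟩ (Set.subset_insert t J)
  exact htJ (h2 (Set.mem_insert t J))

end zorn


section reindex
variable (p : ℕ) (k : Type u) {K : Type u} [CommRing k] [CommRing K] [Algebra k K]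
  {ι ι' : Type u} (x : ι → K) (σ : ι' → ι)

theorem pMonomial_comp (hσ : Function.Injective σ) (e : ι' →₀ ℕ) :
    pMonomial (x ∘ σ) e = pMonomial x (Finsupp.mapDomain σ e) := by
  unfold pMonomial
  rw [Finsupp.prod_mapDomain_index_inj hσ]
  rfl

theorem mapDomain_mem_MM (hσ : Function.Injective σ) (e : ι' →₀ ℕ) (he : ∀ i, e i < p)
    (hp : 0 < p) :
    Finsupp.mapDomain σ e ∈ MM p (Set.range σ) := by
  classical
  refine ⟨fun i => ?_, fun i hi => ?_⟩
  · by_cases hi : i ∈ Set.range σ
    · obtain ⟨i', rfl⟩ := hi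
      rw [Finsupp.mapDomain_apply hσ]
      exact he i'
    · rw [Finsupp.mapDomain_notin_range _ _ hi]
      exact hp
  · have := Finsupp.mapDomain_support hi
    obtain ⟨i', -, rfl⟩ := Finset.mem_image.mp this
    exact Set.mem_range_self i'

/-- reindexing: `p`-freeness of `x ∘ σ` is `p`-freeness of the subfamily of `x` on `range σ`. -/
theorem PFon_range_iff (hσ : Function.Injective σ) (hp : 0 < p) :
    PFon p k x (Set.range σ) ↔ IsPIndependent p k (x ∘ σ) := by
  constructor
  · intro hJ
    let g : {e : ι' →₀ ℕ // ∀ i, e i < p} → MM p (Set.range σ) := fun e =>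
      ⟨Finsupp.mapDomain σ e.1, mapDomain_mem_MM p σ hσ e.1 e.2 hp⟩
    have hg : Function.Injective g := by
      intro e e' hee
      apply Subtype.ext
      exact Finsupp.mapDomain_injective hσ (congrArg Subtype.val hee)
    have h1 := LinearIndependent.comp hJ g hg
    have h2 : (fun e : {e : ι' →₀ ℕ // ∀ i, e i < p} => pMonomial (x ∘ σ) e.1) =
        (fun m : MM p (Set.range σ) => pMonomial x m.1) ∘ g := by
      funext e
      exact pMonomial_comp x σ hσ e.1
    unfold IsPIndependent
    rw [h2]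
    exact h1
  · intro hI
    let h : MM p (Set.range σ) → {e : ι' →₀ ℕ // ∀ i, e i < p} := fun m =>
      ⟨Finsupp.comapDomain σ m.1 hσ.injOn, fun i => m.2.1 (σ i)⟩
    have hm : ∀ m : MM p (Set.range σ),
        Finsupp.mapDomain σ (Finsupp.comapDomain σ m.1 hσ.injOn) = m.1 := fun m =>
      Finsupp.mapDomain_comapDomain σ hσ m.1 m.2.2
    have hh : Function.Injective h := by
      intro m m' hmm
      apply Subtype.ext
      have h1 : Finsupp.comapDomain σ m.1 hσ.injOn = Finsupp.comapDomain σ m'.1 hσ.injOn :=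
        congrArg Subtype.val hmm
      rw [← hm m, ← hm m', h1]
    have h1 := LinearIndependent.comp hI h hh
    have h2 : (fun m : MM p (Set.range σ) => pMonomial x m.1) =
        (fun e : {e : ι' →₀ ℕ // ∀ i, e i < p} => pMonomial (x ∘ σ) e.1) ∘ h := by
      funext m
      show pMonomial x m.1 = pMonomial (x ∘ σ) (Finsupp.comapDomain σ m.1 hσ.injOn)
      rw [pMonomial_comp x σ hσ, hm m]
    show LinearIndependent _ (fun m : MM p (Set.range σ) => pMonomial x m.1)
    rw [h2]
    exact h1

theorem PFon_iff_subtype (J : Set ι) (hp : 0 < p) :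
    PFon p k x J ↔ IsPIndependent p k (fun j : J => x j) := by
  have := PFon_range_iff p k x (Subtype.val : J → ι) Subtype.val_injective hp
  rw [Subtype.range_coe] at this
  exact this

theorem PFon_univ_iff (hp : 0 < p) :
    PFon p k x Set.univ ↔ IsPIndependent p k x := by
  have := PFon_range_iff p k x (id : ι → ι) Function.injective_id hp
  rw [Set.range_id] at this
  exact this

end reindex


section main2467
variable (p : ℕ) [hpp : Fact p.Prime] {k K : Type u} [Field k] [Field K] [Algebra k K]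
  [CharP K p]

theorem main2467 (S L : Set K) (hLS : L ⊆ S)
    (hS : IsPGenerating p k (Subtype.val : S → K))
    (hL : IsPIndependent p k (Subtype.val : L → K)) :
    ∃ B : Set K, L ⊆ B ∧ B ⊆ S ∧ IsPBasis p k (Subtype.val : B → K) := by
  have hp := hpp.out.pos
  have h0 : PFon p k (id : K → K) L := (PFon_iff_subtype p k id L hp).mpr hL
  obtain ⟨B, hLB, hBS, hB, hgen⟩ := exists_maximal_PFon p k id L S hLS h0
  refine ⟨B, hLB, hBS, (PFon_iff_subtype p k id B hp).mp hB, ?_⟩
  rw [← Groth.Agent.H2.PGen.adjoin_eq_top_iff] at hS ⊢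
  rw [Subtype.range_coe] at hS ⊢
  rw [eq_top_iff, ← hS]
  apply Algebra.adjoin_le
  intro t ht
  have := hgen t ht
  rwa [Set.image_id] at this

end main2467

end H5.PB
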