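import Mathlib
import Groth.Agent.Lib.Helper5.PB.PB7

set_option autoImplicit false
universe u

open EGA41

namespace H5.PB

open Groth.Agent.H2.PGen (pMonomial_zero pMonomial_add pMonomial_single pow_p_mem)

section
variable (p : ℕ) [hpp : Fact p.Prime] {k K : Type u} [Field k] [Field K] [Algebra k K]
  [CharP K p] {ι : Type u} (x : ι → K)

omit hpp [CharP K p] in
theorem MM_empty (hp : 0 < p) : MM p (∅ : Set ι) = {0} := by
  ext e
  constructor
  · intro he
    have : e.support = ∅ := by
      have := he.2
      exact Finset.coe_eq_empty.mp (Set.subset_empty_iff.mp this)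
    exact Finsupp.support_eq_empty.mp this
  · intro he
    rw [Set.mem_singleton_iff] at he
    subst he
    exact ⟨fun _ => hp, by simp⟩

omit hpp [CharP K p] in
theorem PFon_empty (hp : 0 < p) : PFon p k x ∅ := by
  unfold PFon
  rw [MM_empty p hp, linearIndepOn_singleton_iff, pMonomial_zero]
  exact one_ne_zero

omit hpp in
/-- a `p`-free family is injective. -/
theorem injective_of_isPIndependent (hx : IsPIndependent p k x) (hp : 1 < p) :
    Function.Injective x := by
  classical
  intro i j hij
  have h1 := LinearIndependent.injective hx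
  have h2 := @h1 ⟨Finsupp.single i 1, fun l => by
      rw [Finsupp.single_apply]; split_ifs <;> omega⟩
    ⟨Finsupp.single j 1, fun l => by
      rw [Finsupp.single_apply]; split_ifs <;> omega⟩ (by
      show pMonomial x (Finsupp.single i 1) = pMonomial x (Finsupp.single j 1)
      rw [pMonomial_single, pMonomial_single, hij])
  have h3 : Finsupp.single i 1 = Finsupp.single j 1 := congrArg Subtype.val h2
  by_contra hne
  have := congr($h3 i)
  rw [Finsupp.single_eq_same, Finsupp.single_eq_of_ne hne] at this
  exact one_ne_zero this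

/-- a `p`-free family extends to a `p`-basis. -/
theorem exists_pBasis_of_isPIndependent (hx : IsPIndependent p k x) :
    ∃ B : Set K, Set.range x ⊆ B ∧ IsPBasis p k (Subtype.val : B → K) := by
  have hp := hpp.out.pos
  have hinj := injective_of_isPIndependent p x hx hpp.out.one_lt
  have h0 : PFon p k (id : K → K) (Set.range x) := (PFon_range_iff p k id x hinj hp).mpr hx
  obtain ⟨B, hLB, -, hB, hgen⟩ := exists_maximal_PFon p k id (Set.range x) Set.univ
    (Set.subset_univ _) h0
  refine ⟨B, hLB, (PFon_iff_subtype p k id B hp).mp hB, ?_⟩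
  rw [← Groth.Agent.H2.PGen.adjoin_eq_top_iff, Subtype.range_coe, eq_top_iff]
  intro t _
  have := hgen t (Set.mem_univ t)
  rwa [Set.image_id] at this

/-- differentials of elements of `C[x_J]` lie in the span of the `d x_j`. -/
theorem D_mem_span_of_mem_adjoin (J : Set ι) (y : K)
    (hy : y ∈ Algebra.adjoin (pPowerSubalgebra p k K) (x '' J)) :
    KaehlerDifferential.D k K y ∈
      Submodule.span K ((fun i => KaehlerDifferential.D k K (x i)) '' J) := by
  induction hy using Algebra.adjoin_induction with
  | mem y hy =>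
    obtain ⟨j, hj, rfl⟩ := hy
    exact Submodule.subset_span ⟨j, hj, rfl⟩
  | algebraMap c =>
    have : KaehlerDifferential.D k K (algebraMap (pPowerSubalgebra p k K) K c) = 0 :=
      Groth.Agent.H2.PGen.D_eq_zero_of_mem p c.1 c.2
    rw [this]
    exact Submodule.zero_mem _
  | add y z _ _ hy hz => rw [map_add]; exact Submodule.add_mem _ hy hz
  | mul y z _ _ hy hz =>
    rw [Derivation.leibniz]
    exact Submodule.add_mem _ (Submodule.smul_mem _ _ hz) (Submodule.smul_mem _ _ hy)

/-- (a) `p`-free ⟹ differentials linearly independent. -/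
theorem linearIndependent_D_of_isPIndependent (hx : IsPIndependent p k x) :
    LinearIndependent K (fun i => KaehlerDifferential.D k K (x i)) := by
  obtain ⟨B, hxB, hB⟩ := exists_pBasis_of_isPIndependent p x hx
  have hinj := injective_of_isPIndependent p x hx hpp.out.one_lt
  have h1 := linearIndependent_D p (Subtype.val : B → K) hB
  let g : ι → B := fun i => ⟨x i, hxB (Set.mem_range_self i)⟩
  have hg : Function.Injective g := fun i j hij => hinj (congrArg Subtype.val hij)
  exact h1.comp g hg

/-- (b) differentials linearly independent ⟹ `p`-free. -/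
theorem isPIndependent_of_linearIndependent_D
    (h : LinearIndependent K (fun i => KaehlerDifferential.D k K (x i))) :
    IsPIndependent p k x := by
  have hp := hpp.out.pos
  obtain ⟨J, -, -, hJ, hgen⟩ := exists_maximal_PFon p k x ∅ Set.univ (Set.subset_univ _)
    (PFon_empty p x hp)
  have hJu : J = Set.univ := by
    rw [Set.eq_univ_iff_forall]
    intro i
    by_contra hi
    have h1 := h.notMem_span_image hi
    exact h1 (D_mem_span_of_mem_adjoin p x J (x i) (hgen i (Set.mem_univ i)))
  rw [hJu] at hJ
  exact (PFon_univ_iff p k x hp).mp hJ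

/-- (d) differentials span ⟹ `p`-generating. -/
theorem isPGenerating_of_span_D_eq_top
    (h : Submodule.span K (Set.range fun i => KaehlerDifferential.D k K (x i)) = ⊤) :
    IsPGenerating p k x := by
  have hp := hpp.out.pos
  obtain ⟨J, -, -, hJ, hgen⟩ := exists_maximal_PFon p k x ∅ Set.univ (Set.subset_univ _)
    (PFon_empty p x hp)
  have hJ' : IsPIndependent p k (fun j : J => x j) := (PFon_iff_subtype p k x J hp).mp hJ
  obtain ⟨B, hxB, hB⟩ := exists_pBasis_of_isPIndependent p (fun j : J => x j) hJ'
  have h1 := linearIndependent_D p (Subtype.val : B → K) hB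
  -- the span of the `d x_j`, `j ∈ J`, is everything
  have h2 : Submodule.span K ((fun i => KaehlerDifferential.D k K (x i)) '' J) = ⊤ := by
    rw [eq_top_iff, ← h, Submodule.span_le]
    rintro _ ⟨i, rfl⟩
    exact D_mem_span_of_mem_adjoin p x J (x i) (hgen i (Set.mem_univ i))
  -- hence `B = x '' J`
  have h3 : B ⊆ x '' J := by
    intro b hb
    by_contra hnot
    have h4 := h1.notMem_span_image (s := {b' : B | b'.1 ∈ x '' J}) (x := ⟨b, hb⟩) hnot
    apply h4
    have h5 : ((fun i => KaehlerDifferential.D k K (x i)) '' J) ⊆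
        (fun b' : B => KaehlerDifferential.D k K b'.1) '' {b' : B | b'.1 ∈ x '' J} := by
      rintro _ ⟨j, hj, rfl⟩
      exact ⟨⟨x j, hxB ⟨⟨j, hj⟩, rfl⟩⟩, ⟨j, hj, rfl⟩, rfl⟩
    have h6 := Submodule.span_mono (R := K) h5
    rw [h2] at h6
    exact h6 Submodule.mem_top
  rw [← Groth.Agent.H2.PGen.adjoin_eq_top_iff, eq_top_iff]
  have h7 := (Groth.Agent.H2.PGen.adjoin_eq_top_iff p (A := k) (Subtype.val : B → K)).mpr hB.2
  rw [Subtype.range_coe] at h7
  rw [← h7]
  apply Algebra.adjoin_mono
  intro b hb
  obtain ⟨j, -, rfl⟩ := h3 hb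
  exact Set.mem_range_self j

theorem main2468 :
    (IsPIndependent p k x ↔ LinearIndependent K (fun i => KaehlerDifferential.D k K (x i))) ∧
    (IsPGenerating p k x ↔
      Submodule.span K (Set.range fun i => KaehlerDifferential.D k K (x i)) = ⊤) ∧
    (IsPBasis p k x ↔
      ∃ b : Module.Basis ι K (Ω[K⁄k]), ∀ i, b i = KaehlerDifferential.D k K (x i)) := by
  refine ⟨⟨linearIndependent_D_of_isPIndependent p x, isPIndependent_of_linearIndependent_D p x⟩,
    ⟨Groth.Agent.H2.PGen.span_D_eq_top_of_isPGenerating p x,
      isPGenerating_of_span_D_eq_top p x⟩, ⟨main2466 p x, ?_⟩⟩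
  rintro ⟨b, hb⟩
  have hb' : (b : ι → Ω[K⁄k]) = fun i => KaehlerDifferential.D k K (x i) := funext hb
  refine ⟨isPIndependent_of_linearIndependent_D p x ?_, isPGenerating_of_span_D_eq_top p x ?_⟩
  · rw [← hb']; exact b.linearIndependent
  · rw [← hb']; exact b.span_eq

end

end H5.PB
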