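import Mathlib
import Groth.Agent.Lib.Helper5.PB.PB8

set_option autoImplicit false
universe u

open EGA41

namespace H5.PB

open Groth.Agent.H2.PGen (pMonomial_zero pMonomial_add pMonomial_single pow_p_mem)

section
variable (p : ℕ) [hpp : Fact p.Prime] {k K : Type u} [Field k] [Field K] [Algebra k K]
  [CharP K p] {ι : Type u} (x : ι → K)

/-- the field generated over `k` by `K^p` and `T` is the ring `k[K^p][T]`. -/
theorem mem_intermediateField_adjoin_iff (T : Set K) (y : K) :
    y ∈ IntermediateField.adjoin k ((Set.range fun y : K => y ^ p) ∪ T) ↔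
      y ∈ Algebra.adjoin (pPowerSubalgebra p k K) T := by
  set C := pPowerSubalgebra p k K with hC
  set F₀ : Subalgebra C K := Algebra.adjoin C T with hF₀
  have hpowF : ∀ y : K, y ^ p ∈ F₀.toSubring := fun y =>
    F₀.algebraMap_mem (⟨y ^ p, pow_p_mem p y⟩ : C)
  constructor
  · intro hy
    let F' : IntermediateField k K :=
      Subalgebra.toIntermediateField (F₀.restrictScalars k) (fun z hz =>
        (subfieldOfPow p F₀.toSubring hpowF).inv_mem hz)
    have hle : IntermediateField.adjoin k ((Set.range fun y : K => y ^ p) ∪ T) ≤ F' := by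
      rw [IntermediateField.adjoin_le_iff]
      rintro z (⟨w, rfl⟩ | hz)
      · exact hpowF w
      · exact Algebra.subset_adjoin hz
    exact hle hy
  · intro hy
    induction hy using Algebra.adjoin_induction with
    | mem z hz => exact IntermediateField.subset_adjoin _ _ (Or.inr hz)
    | algebraMap c =>
      have hle : C ≤ (IntermediateField.adjoin k
          ((Set.range fun y : K => y ^ p) ∪ T)).toSubalgebra := by
        apply Algebra.adjoin_le
        rintro _ ⟨w, rfl⟩
        exact IntermediateField.subset_adjoin _ _ (Or.inl ⟨w, rfl⟩)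
      exact hle c.2
    | add z w _ _ hz hw => exact add_mem hz hw
    | mul z w _ _ hz hw => exact mul_mem hz hw

theorem main4521 :
    IsPIndependent p k x ↔
      ∀ a : ι, x a ∉ IntermediateField.adjoin k
        ((Set.range fun y : K => y ^ p) ∪ x '' {b | b ≠ a}) := by
  have hp := hpp.out.pos
  constructor
  · intro hx a ha
    rw [mem_intermediateField_adjoin_iff] at ha
    have h1 := linearIndependent_D_of_isPIndependent p x hx
    have h2 := D_mem_span_of_mem_adjoin p x {b | b ≠ a} (x a) ha
    exact h1.notMem_span_image (s := {b | b ≠ a}) (x := a) (fun h => h rfl) h2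
  · intro h
    obtain ⟨J, -, -, hJ, hgen⟩ := exists_maximal_PFon p k x ∅ Set.univ (Set.subset_univ _)
      (PFon_empty p x hp)
    have hJu : J = Set.univ := by
      rw [Set.eq_univ_iff_forall]
      intro a
      by_contra ha
      apply h a
      rw [mem_intermediateField_adjoin_iff]
      have hsub : x '' J ⊆ x '' {b | b ≠ a} := by
        apply Set.image_mono
        intro j hj hja
        exact ha (hja ▸ hj)
      exact Algebra.adjoin_mono hsub (hgen a (Set.mem_univ a))
    rw [hJu] at hJ
    exact (PFon_univ_iff p k x hp).mp hJ

end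

end H5.PB
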