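import Mathlib
import Groth.Agent.Lib.Helper5.PB.PB9

set_option autoImplicit false
universe u

open EGA41

namespace H5.PB

open Groth.Agent.H2.PGen (pMonomial_zero pMonomial_add pMonomial_single pow_p_mem)

section towerGen
variable (p : ℕ) [hpp : Fact p.Prime] {A C B : Type u} [CommRing A] [CommRing C] [CommRing B]
  [Algebra A C] [Algebra C B] [Algebra A B] [IsScalarTower A C B]
  {ι κ : Type u} (x : ι → C) (y : κ → B)

/-- (i): `p`-generators in towers. -/
theorem isPGenerating_sum (hx : IsPGenerating p A x) (hy : IsPGenerating p C y) :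
    IsPGenerating p A (Sum.elim (fun i => algebraMap C B (x i)) y) := by
  rw [← Groth.Agent.H2.PGen.adjoin_eq_top_iff] at hx hy ⊢
  set R := Algebra.adjoin (pPowerSubalgebra p A B)
    (Set.range (Sum.elim (fun i => algebraMap C B (x i)) y)) with hR
  have hP : ∀ b : B, b ∈ pPowerSubalgebra p A B → b ∈ R := fun b hb =>
    R.algebraMap_mem (⟨b, hb⟩ : pPowerSubalgebra p A B)
  have h0 : ∀ c : C, c ∈ pPowerSubalgebra p A C → algebraMap C B c ∈ R := by
    intro c hc
    induction hc using Algebra.adjoin_induction with
    | mem c hc =>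
      obtain ⟨c₀, rfl⟩ := hc
      show algebraMap C B (c₀ ^ p) ∈ R
      rw [map_pow]
      exact hP _ (pow_p_mem p _)
    | algebraMap a =>
      rw [← IsScalarTower.algebraMap_apply]
      exact hP _ (Subalgebra.algebraMap_mem _ a)
    | add c d _ _ hc hd => rw [map_add]; exact R.add_mem hc hd
    | mul c d _ _ hc hd => rw [map_mul]; exact R.mul_mem hc hd
  have h1 : ∀ c : C, algebraMap C B c ∈ R := by
    intro c
    have hc : c ∈ Algebra.adjoin (pPowerSubalgebra p A C) (Set.range x) := by
      rw [hx]; exact Algebra.mem_top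
    induction hc using Algebra.adjoin_induction with
    | mem c hc =>
      obtain ⟨i, rfl⟩ := hc
      exact Algebra.subset_adjoin ⟨Sum.inl i, rfl⟩
    | algebraMap a => exact h0 a.1 a.2
    | add c d _ _ hc hd => rw [map_add]; exact R.add_mem hc hd
    | mul c d _ _ hc hd => rw [map_mul]; exact R.mul_mem hc hd
  have h2 : ∀ b : B, b ∈ pPowerSubalgebra p C B → b ∈ R := by
    intro b hb
    induction hb using Algebra.adjoin_induction with
    | mem b hb =>
      obtain ⟨b₀, rfl⟩ := hb
      exact hP _ (pow_p_mem p _)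
    | algebraMap c => exact h1 c
    | add c d _ _ hc hd => exact R.add_mem hc hd
    | mul c d _ _ hc hd => exact R.mul_mem hc hd
  rw [eq_top_iff]
  intro b hb0
  clear hb0
  have hb : b ∈ Algebra.adjoin (pPowerSubalgebra p C B) (Set.range y) := by
    rw [hy]; exact Algebra.mem_top
  induction hb using Algebra.adjoin_induction with
  | mem b hb =>
    obtain ⟨j, rfl⟩ := hb
    exact Algebra.subset_adjoin ⟨Sum.inr j, rfl⟩
  | algebraMap c => exact h2 c.1 c.2
  | add c d _ _ hc hd => exact R.add_mem hc hd
  | mul c d _ _ hc hd => exact R.mul_mem hc hd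

end towerGen


section smulIff
open Finsupp
variable {R S M : Type*} [Semiring R] [Semiring S] [AddCommMonoid M]
variable [Module R S] [Module S M] [Module R M] [IsScalarTower R S M]

theorem linearIndependent_smul_iff_of_basis {ι ι' : Type*} (b : Module.Basis ι R S)
    {c : ι' → M} :
    LinearIndependent R (fun p : ι × ι' ↦ b p.1 • c p.2) ↔ LinearIndependent S c := by
  constructor
  · intro h
    rw [← linearIndependent_equiv' (.prodComm ..) (g := fun p : ι' × ι ↦ b p.2 • c p.1) rfl,
      LinearIndependent, linearCombination_smul] at h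
    have hsurj : Function.Surjective ((mapRange.linearMap (linearCombination R b)) ∘ₗ
        (finsuppProdLEquiv (α := ι') (β := ι) (M := R) R).toLinearMap) := by
      rw [LinearMap.coe_comp]
      refine Function.Surjective.comp ?_ (LinearEquiv.surjective _)
      apply Finsupp.mapRange_surjective _ (map_zero _)
      intro s
      exact ⟨b.repr s, b.linearCombination_repr s⟩
    unfold LinearIndependent
    have h' : Function.Injective (((linearCombination S c).restrictScalars R) ∘
        ((mapRange.linearMap (linearCombination R b)) ∘ₗ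
        (finsuppProdLEquiv (α := ι') (β := ι) (M := R) R).toLinearMap)) := h
    exact Function.Injective.of_comp_right h' hsurj
  · intro h
    exact linearIndependent_smul b.linearIndependent h

end smulIff

section sumEquiv
variable (p : ℕ) (ι κ : Type u)

/-- reduced exponent vectors on a sum type. -/
noncomputable def sumEquiv : {g : ι ⊕ κ →₀ ℕ // ∀ i, g i < p} ≃
    {e : ι →₀ ℕ // ∀ i, e i < p} × {f : κ →₀ ℕ // ∀ i, f i < p} where
  toFun g := (⟨(Finsupp.sumFinsuppEquivProdFinsupp g.1).1, fun i => by
      rw [Finsupp.fst_sumFinsuppEquivProdFinsupp]; exact g.2 _⟩,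
    ⟨(Finsupp.sumFinsuppEquivProdFinsupp g.1).2, fun i => by
      rw [Finsupp.snd_sumFinsuppEquivProdFinsupp]; exact g.2 _⟩)
  invFun q := ⟨Finsupp.sumElim q.1.1 q.2.1, fun i => by
    rcases i with i | i
    · exact q.1.2 i
    · exact q.2.2 i⟩
  left_inv g := Subtype.ext (Finsupp.sumFinsuppEquivProdFinsupp.symm_apply_apply g.1)
  right_inv q := by
    have := Finsupp.sumFinsuppEquivProdFinsupp.apply_symm_apply (q.1.1, q.2.1)
    exact Prod.ext (Subtype.ext (congrArg Prod.fst this)) (Subtype.ext (congrArg Prod.snd this))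

theorem sumEquiv_symm_val (q : {e : ι →₀ ℕ // ∀ i, e i < p} × {f : κ →₀ ℕ // ∀ i, f i < p}) :
    ((sumEquiv p ι κ).symm q).1 = Finsupp.sumElim q.1.1 q.2.1 := rfl

end sumEquiv

theorem pMonomial_sumElim {B : Type u} [CommRing B] {ι κ : Type u} (u : ι → B) (y : κ → B)
    (e : ι →₀ ℕ) (f : κ →₀ ℕ) :
    pMonomial (Sum.elim u y) (Finsupp.sumElim e f) = pMonomial u e * pMonomial y f := by
  unfold pMonomial
  rw [Finsupp.prod_sumElim]
  rfl

section towerInd
variable (p : ℕ) [hpp : Fact p.Prime] {A C B : Type u} [CommRing A] [CommRing C] [CommRing B]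
  [Algebra A C] [Algebra C B] [Algebra A B] [IsScalarTower A C B]
  {ι κ : Type u} (x : ι → C) (y : κ → B)

omit hpp in
theorem algebraMap_mem_pPowerSubalgebra (c : C) (hc : c ∈ pPowerSubalgebra p A C) :
    algebraMap C B c ∈ pPowerSubalgebra p A B := by
  induction hc using Algebra.adjoin_induction with
  | mem c hc =>
    obtain ⟨c₀, rfl⟩ := hc
    show algebraMap C B (c₀ ^ p) ∈ _
    rw [map_pow]
    exact Algebra.subset_adjoin ⟨_, rfl⟩
  | algebraMap a =>
    rw [← IsScalarTower.algebraMap_apply]
    exact Subalgebra.algebraMap_mem _ a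
  | add c d _ _ hc hd => rw [map_add]; exact Subalgebra.add_mem _ hc hd
  | mul c d _ _ hc hd => rw [map_mul]; exact Subalgebra.mul_mem _ hc hd

variable (hinj : Function.Injective (algebraMap C B))
  (hpow : ∀ b : B, b ^ p ∈ Set.range (algebraMap A B))

include hinj hpow in
/-- (ii): `p`-independence in towers, over a `p`-basis of the lower floor. -/
theorem isPIndependent_sum_iff (hx : IsPBasis p A x) :
    IsPIndependent p C y ↔
      IsPIndependent p A (Sum.elim (fun i => algebraMap C B (x i)) y) := by
  classical
  have hpowC : ∀ b : B, b ^ p ∈ Set.range (algebraMap C B) := by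
    intro b
    obtain ⟨a, ha⟩ := hpow b
    exact ⟨algebraMap A C a, by rw [← IsScalarTower.algebraMap_apply, ha]⟩
  set U := pPowerSubalgebra p A B with hU
  set V := pPowerSubalgebra p C B with hV
  set A' := pPowerSubalgebra p A C with hA'
  have hUV : ∀ b : B, b ∈ U → b ∈ V := by
    intro b hb
    obtain ⟨a, rfl⟩ := (mem_pPowerSubalgebra_iff p hpow b).mp hb
    rw [IsScalarTower.algebraMap_apply A C B]
    exact Subalgebra.algebraMap_mem V _
  let incl : U →+* V :=
    { toFun := fun u => ⟨u.1, hUV u.1 u.2⟩
      map_one' := rfl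
      map_mul' := fun _ _ => rfl
      map_zero' := rfl
      map_add' := fun _ _ => rfl }
  letI : Algebra U V := incl.toAlgebra
  haveI : IsScalarTower U V B := IsScalarTower.of_algebraMap_eq (fun c => rfl)
  -- the comparison maps
  let i : A' → U := fun a' => ⟨algebraMap C B a'.1, algebraMap_mem_pPowerSubalgebra p a'.1 a'.2⟩
  have hi : Function.Surjective i := by
    intro u
    obtain ⟨a, ha⟩ := (mem_pPowerSubalgebra_iff p hpow u.1).mp u.2
    refine ⟨⟨algebraMap A C a, Subalgebra.algebraMap_mem _ a⟩, Subtype.ext ?_⟩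
    show algebraMap C B (algebraMap A C a) = u.1
    rw [← IsScalarTower.algebraMap_apply, ha]
  let j : C →+ V :=
    { toFun := fun c => ⟨algebraMap C B c, Subalgebra.algebraMap_mem V c⟩
      map_zero' := Subtype.ext (map_zero _)
      map_add' := fun c d => Subtype.ext (map_add _ c d) }
  have hj : ∀ c, j c = 0 → c = 0 := by
    intro c hc
    have : algebraMap C B c = 0 := congrArg Subtype.val hc
    exact (injective_iff_map_eq_zero _).mp hinj c this
  have hjsurj : Function.Surjective j := by
    intro v
    obtain ⟨c, hc⟩ := (mem_pPowerSubalgebra_iff p hpowC v.1).mp v.2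
    exact ⟨c, Subtype.ext hc⟩
  have hc : ∀ (a' : A') (c : C), j (a' • c) = i a' • j c := by
    intro a' c
    apply Subtype.ext
    show algebraMap C B (a'.1 * c) = algebraMap C B a'.1 * algebraMap C B c
    exact map_mul _ _ _
  -- the basis of `V` over `U`
  let Mv : {e : ι →₀ ℕ // ∀ i, e i < p} → V := fun e => j (pMonomial x e.1)
  have hM_LI : LinearIndependent U Mv :=
    LinearIndependent.map_of_surjective_injective hx.1 i j hi hj hc
  have hM_span : ⊤ ≤ Submodule.span U (Set.range Mv) := by
    intro v hv0
    clear hv0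
    obtain ⟨c, rfl⟩ := hjsurj v
    have hcs : c ∈ Submodule.span A'
        (Set.range fun e : {e : ι →₀ ℕ // ∀ i, e i < p} => pMonomial x e.1) := by
      have := hx.2
      unfold IsPGenerating at this
      rw [this]; exact Submodule.mem_top
    induction hcs using Submodule.span_induction with
    | mem c hc =>
      obtain ⟨e, rfl⟩ := hc
      exact Submodule.subset_span ⟨e, rfl⟩
    | zero => rw [map_zero]; exact Submodule.zero_mem _
    | add c d _ _ hc hd => rw [map_add]; exact Submodule.add_mem _ hc hd
    | smul a' c _ hc' => rw [hc]; exact Submodule.smul_mem _ _ hc'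
  let bM : Module.Basis {e : ι →₀ ℕ // ∀ i, e i < p} U V := Module.Basis.mk hM_LI hM_span
  have key := linearIndependent_smul_iff_of_basis (R := U) (S := V) (M := B) bM
    (c := fun f : {f : κ →₀ ℕ // ∀ i, f i < p} => pMonomial y f.1)
  unfold IsPIndependent
  rw [← key]
  refine linearIndependent_equiv' (sumEquiv p ι κ).symm ?_
  funext q
  show pMonomial (Sum.elim (fun i => algebraMap C B (x i)) y) ((sumEquiv p ι κ).symm q).1 =
    bM q.1 • pMonomial y q.2.1
  rw [sumEquiv_symm_val, pMonomial_sumElim, Module.Basis.mk_apply]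
  show _ = algebraMap C B (pMonomial x q.1.1) * pMonomial y q.2.1
  rw [pMonomial_map]

end towerInd

end H5.PB
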