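import Mathlib
import Groth.Prelude.Def_FSRel
import Groth.Agent.Lib.Helper5.PB.PB10

set_option autoImplicit false
universe u
open EGA41

namespace H5.PB

theorem main4519 (p : ℕ) [Fact p.Prime] {R A B : Type u} [CommRing R] [CommRing A]
    [CommRing B] [Algebra R A] [Algebra A B] [Algebra R B] [IsScalarTower R A B] [CharP B p]
    (hinj : Function.Injective (algebraMap A B)) (hpow : ∀ b : B, b ^ p ∈ Set.range (algebraMap A B))
    (hR : Set.range (algebraMap R B) = Set.range fun b : B => b ^ p)
    {ι : Type u} (x : ι → B) (hx : EGA41.IsPBasis p A x) :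
    EGA41.IsFormallySmoothRel R A B := by
  intro C _ _ _ _ J _ u₀ ⟨u, hu⟩
  have hz : ∀ (i : ι) (a : A), algebraMap A B a = x i ^ p →
      algebraMap A C a = (u (x i)) ^ p := by
    intro i a ha
    have h1 : x i ^ p ∈ Set.range (algebraMap R B) := by
      rw [hR]; exact ⟨x i, rfl⟩
    obtain ⟨r, hr⟩ := h1
    have h2 : a = algebraMap R A r := by
      apply hinj
      rw [ha, ← hr, ← IsScalarTower.algebraMap_apply]
    rw [h2, ← IsScalarTower.algebraMap_apply, ← map_pow, ← hr, u.commutes]
  obtain ⟨v, hv, -⟩ := exists_unique_algHom p hinj hpow x hx (fun i => u (x i)) hz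
  refine ⟨v, ?_⟩
  apply algHom_ext_of_pBasis p hinj hpow x hx
  intro i
  rw [AlgHom.comp_apply, hv]
  exact congr($hu (x i))

end H5.PB
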