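import Mathlib
import Groth.Agent.Lib.Helper5.PB.PB11

set_option autoImplicit false
universe u

open EGA41 MvPolynomial

namespace H5.PB

open Groth.Agent.H2.PGen (pMonomial_zero pMonomial_add pMonomial_single pow_p_mem)

section general
variable {p : ℕ} {C₀ B : Type u} [CommRing C₀] [CommRing B] [Algebra C₀ B]
  {ι : Type u} (x : ι → B)

/-- existence of the algebra map with prescribed values, over an arbitrary base. -/
theorem exists_algHom_of_LI (hp : 0 < p)
    (hLI : LinearIndependent C₀ (fun e : {e : ι →₀ ℕ // ∀ i, e i < p} => pMonomial x e.1))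
    (hsp : rspan p C₀ x = ⊤) (c : ι → C₀) (hc : ∀ i, algebraMap C₀ B (c i) = x i ^ p)
    {T : Type u} [CommRing T] [Algebra C₀ T] (z : ι → T)
    (hz : ∀ i, algebraMap C₀ T (c i) = z i ^ p) :
    ∃ w : B →ₐ[C₀] T, ∀ i, w (x i) = z i := by
  have hker := ker_aeval_eq x c hp hc hLI
  have hsurj := aeval_surjective x hsp
  have hle : RingHom.ker (MvPolynomial.aeval x : MvPolynomial ι C₀ →ₐ[C₀] B).toRingHom ≤
      RingHom.ker (MvPolynomial.aeval z : MvPolynomial ι C₀ →ₐ[C₀] T).toRingHom := by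
    have h1 : RingHom.ker (MvPolynomial.aeval x : MvPolynomial ι C₀ →ₐ[C₀] B).toRingHom =
        relIdeal p c := hker
    rw [h1]
    exact relIdeal_le_ker z c hz
  refine ⟨AlgHom.liftOfSurjective _ hsurj _ hle, fun i => ?_⟩
  have h1 : x i = (MvPolynomial.aeval x : MvPolynomial ι C₀ →ₐ[C₀] B) (X i) := (aeval_X x i).symm
  conv_lhs => rw [h1]
  rw [AlgHom.liftOfSurjective_apply, aeval_X]

/-- ring maps out of `B` agreeing on `C₀` and on the `x_i` are equal. -/
theorem ringHom_ext_of_rspan (hsp : rspan p C₀ x = ⊤) {T : Type*} [CommRing T]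
    (g₁ g₂ : B →+* T) (hC : ∀ c : C₀, g₁ (algebraMap C₀ B c) = g₂ (algebraMap C₀ B c))
    (hX : ∀ i, g₁ (x i) = g₂ (x i)) : g₁ = g₂ := by
  have hsurj := aeval_surjective x hsp
  have h2 : g₁.comp (MvPolynomial.aeval x : MvPolynomial ι C₀ →ₐ[C₀] B).toRingHom =
      g₂.comp (MvPolynomial.aeval x : MvPolynomial ι C₀ →ₐ[C₀] B).toRingHom := by
    apply MvPolynomial.ringHom_ext
    · intro r
      simp only [RingHom.comp_apply, AlgHom.toRingHom_eq_coe, RingHom.coe_coe, aeval_C]
      exact hC r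
    · intro i
      simp only [RingHom.comp_apply, AlgHom.toRingHom_eq_coe, RingHom.coe_coe, aeval_X]
      exact hX i
  apply RingHom.ext
  intro b
  obtain ⟨f, rfl⟩ := hsurj b
  exact congr($h2 f)

end general


section perfect
variable (p : ℕ) [hpp : Fact p.Prime] {A B : Type u} [CommRing A] [CharP A p] [PerfectRing A p]
  [CommRing B] [Algebra A B] [CharP B p] [IsReduced B] {ι : Type u} (x : ι → B)

omit [IsReduced B] in
/-- for perfect `A`, `A[B^p] = B^p`. -/
theorem mem_pPowerSubalgebra_iff_perfect (b : B) :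
    b ∈ pPowerSubalgebra p A B ↔ ∃ b' : B, b' ^ p = b := by
  constructor
  · intro hb
    induction hb using Algebra.adjoin_induction with
    | mem b hb =>
      obtain ⟨b₀, rfl⟩ := hb
      exact ⟨b₀, rfl⟩
    | algebraMap a =>
      refine ⟨algebraMap A B ((frobeniusEquiv A p).symm a), ?_⟩
      rw [← map_pow, frobeniusEquiv_symm_pow_p]
    | add b c _ _ hb hc =>
      obtain ⟨b', rfl⟩ := hb
      obtain ⟨c', rfl⟩ := hc
      exact ⟨b' + c', add_pow_char b' c' p⟩
    | mul b c _ _ hb hc =>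
      obtain ⟨b', rfl⟩ := hb
      obtain ⟨c', rfl⟩ := hc
      exact ⟨b' * c', mul_pow b' c' p⟩
  · rintro ⟨b', rfl⟩
    exact pow_p_mem p b'

omit [CharP A p] [PerfectRing A p] [IsReduced B] in
/-- Frobenius as a map `B → A[B^p]`. -/
noncomputable def psiF : B →+* pPowerSubalgebra p A B where
  toFun b := ⟨b ^ p, pow_p_mem p b⟩
  map_one' := Subtype.ext (one_pow p)
  map_mul' b c := Subtype.ext (mul_pow b c p)
  map_zero' := Subtype.ext (zero_pow hpp.out.ne_zero)
  map_add' b c := Subtype.ext (add_pow_char b c p)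

omit [CharP A p] [PerfectRing A p] [IsReduced B] in
theorem psiF_val (b : B) : ((psiF p (A := A) b : pPowerSubalgebra p A B) : B) = b ^ p := rfl

omit [CharP A p] [PerfectRing A p] in
theorem psiF_injective : Function.Injective (psiF p (A := A) (B := B)) := by
  intro b c hbc
  have h1 : b ^ p = c ^ p := congrArg Subtype.val hbc
  have h2 : (b - c) ^ p = 0 := by rw [sub_pow_char, h1, sub_self]
  exact sub_eq_zero.mp (IsReduced.eq_zero _ ⟨p, h2⟩)

omit [IsReduced B] in
theorem psiF_surjective : Function.Surjective (psiF p (A := A) (B := B)) := by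
  intro c
  obtain ⟨b, hb⟩ := (mem_pPowerSubalgebra_iff_perfect p c.1).mp c.2
  exact ⟨b, Subtype.ext hb⟩

variable {p} in
/-- the base step: lifting along a surjection whose kernel has vanishing `p`-th power. -/
theorem lift_step (hx : IsPBasis p A x) {E E₀ : Type u} [CommRing E] [CommRing E₀] [Algebra A E]
    [Algebra A E₀] (π : E →ₐ[A] E₀) (hπ : Function.Surjective π)
    (hK : RingHom.ker π.toRingHom ^ p = ⊥) (v : B →ₐ[A] E₀) (z : ι → E)
    (hz : ∀ i, π (z i) = v (x i)) :
    ∃! w : B →ₐ[A] E, π.comp w = v ∧ ∀ i, w (x i) = z i := by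
  have hpA : ((p : ℕ) : A) = 0 := CharP.cast_eq_zero A p
  have hpE : ((p : ℕ) : E) = 0 := by
    rw [← map_natCast (algebraMap A E), hpA, map_zero]
  -- Frobenius of `E`
  let FE : E →+* E :=
    { toFun := fun e => e ^ p
      map_one' := one_pow p
      map_mul' := fun a b => mul_pow a b p
      map_zero' := zero_pow hpp.out.ne_zero
      map_add' := fun a b => by
        obtain ⟨r, hr⟩ := exists_add_pow_prime_eq hpp.out a b
        rw [hr, hpE]; ring }
  have hker : RingHom.ker π.toRingHom ≤ RingHom.ker FE := by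
    intro r hr
    rw [RingHom.mem_ker]
    show r ^ p = 0
    have := Ideal.pow_mem_pow hr p
    rw [hK] at this
    exact this
  let Fbar : E₀ →+* E := RingHom.liftOfSurjective π.toRingHom hπ ⟨FE, hker⟩
  have hFbar : ∀ e : E, Fbar (π e) = e ^ p := fun e =>
    RingHom.liftOfRightInverse_comp_apply π.toRingHom _ _ ⟨FE, hker⟩ e
  have hπFbar : ∀ e₀ : E₀, π (Fbar e₀) = e₀ ^ p := by
    intro e₀
    obtain ⟨e, rfl⟩ := hπ e₀
    rw [hFbar, map_pow]
  let ψ : B ≃+* pPowerSubalgebra p A B :=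
    RingEquiv.ofBijective (psiF p (A := A) (B := B)) ⟨psiF_injective p, psiF_surjective p⟩
  have hψ : ∀ b, ((ψ b : pPowerSubalgebra p A B) : B) = b ^ p := fun b => rfl
  let w₀ : pPowerSubalgebra p A B →+* E := Fbar.comp (v.toRingHom.comp ψ.symm.toRingHom)
  have hw₀ : ∀ b, w₀ (ψ b) = Fbar (v b) := by
    intro b
    show Fbar (v (ψ.symm (ψ b))) = _
    rw [RingEquiv.symm_apply_apply]
  letI : Algebra (pPowerSubalgebra p A B) E := w₀.toAlgebra
  have halg : ∀ c, algebraMap (pPowerSubalgebra p A B) E c = w₀ c := fun c => rfl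
  obtain ⟨w, hw⟩ := exists_algHom_of_LI (C₀ := pPowerSubalgebra p A B) x hpp.out.pos hx.1 hx.2
    (fun i => ψ (x i)) (fun i => rfl) z (fun i => by
      rw [halg, hw₀, ← hz, hFbar])
  have hwC : ∀ b, w ((ψ b : pPowerSubalgebra p A B) : B) = Fbar (v b) := by
    intro b
    have := w.commutes (ψ b)
    rw [halg, hw₀] at this
    exact this
  have hcomm : ∀ a : A, w (algebraMap A B a) = algebraMap A E a := by
    intro a
    have h1 : algebraMap A B a =
        ((ψ (algebraMap A B ((frobeniusEquiv A p).symm a)) : pPowerSubalgebra p A B) : B) := by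
      rw [hψ, ← map_pow, frobeniusEquiv_symm_pow_p]
    rw [h1, hwC, AlgHom.commutes, ← π.commutes, hFbar, ← map_pow, frobeniusEquiv_symm_pow_p]
  let wA : B →ₐ[A] E := { w.toRingHom with commutes' := hcomm }
  have hwA : ∀ b, wA b = w b := fun b => rfl
  refine ⟨wA, ⟨?_, fun i => hw i⟩, ?_⟩
  · have h1 : (π.toRingHom.comp wA.toRingHom) = v.toRingHom := by
      apply ringHom_ext_of_rspan (C₀ := pPowerSubalgebra p A B) x hx.2
      · intro c
        obtain ⟨b, rfl⟩ := ψ.surjective c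
        show π (w ((ψ b : pPowerSubalgebra p A B) : B)) = v ((ψ b : pPowerSubalgebra p A B) : B)
        rw [hwC, hπFbar, hψ, map_pow]
      · intro i
        show π (w (x i)) = v (x i)
        rw [hw, hz]
    apply AlgHom.ext
    intro b
    exact congr($h1 b)
  · rintro w' ⟨hw'1, hw'2⟩
    have h1 : w'.toRingHom = wA.toRingHom := by
      apply ringHom_ext_of_rspan (C₀ := pPowerSubalgebra p A B) x hx.2
      · intro c
        obtain ⟨b, rfl⟩ := ψ.surjective c
        show w' ((ψ b : pPowerSubalgebra p A B) : B) = w ((ψ b : pPowerSubalgebra p A B) : B)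
        rw [hwC, hψ, map_pow, ← hFbar]
        congr 1
        exact congr($hw'1 b)
      · intro i
        show w' (x i) = w (x i)
        rw [hw, hw'2]
    apply AlgHom.ext
    intro b
    exact congr($h1 b)

end perfect


section perfect2
variable {p : ℕ} [hpp : Fact p.Prime] {A B : Type u} [CommRing A] [CharP A p] [PerfectRing A p]
  [CommRing B] [Algebra A B] [CharP B p] [IsReduced B] {ι : Type u} (x : ι → B)

/-- lifting along a surjection with nilpotent kernel, by induction on the exponent. -/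
theorem lift_pow (hx : IsPBasis p A x) : ∀ (k : ℕ) {E E₀ : Type u} [CommRing E] [CommRing E₀]
    [Algebra A E] [Algebra A E₀] (π : E →ₐ[A] E₀) (_ : Function.Surjective π)
    (_ : RingHom.ker π.toRingHom ^ (p ^ k) = ⊥) (v : B →ₐ[A] E₀) (z : ι → E)
    (_ : ∀ i, π (z i) = v (x i)),
    ∃! w : B →ₐ[A] E, π.comp w = v ∧ ∀ i, w (x i) = z i := by
  intro k
  induction k with
  | zero =>
    intro E E₀ _ _ _ _ π hπ hK v z hz
    apply lift_step x hx π hπ _ v z hz
    rw [pow_zero, pow_one] at hK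
    rw [hK]
    exact Ideal.bot_pow hpp.out.ne_zero
  | succ k ih =>
    intro E E₀ _ _ _ _ π hπ hK v z hz
    set K := RingHom.ker π.toRingHom with hKdef
    set I : Ideal E := K ^ (p ^ k) with hI
    have hIK : I ≤ K := Ideal.pow_le_self (pow_ne_zero k hpp.out.ne_zero)
    let π₁ : E →ₐ[A] E ⧸ I := Ideal.Quotient.mkₐ A I
    have hπ₁ : Function.Surjective π₁ := Ideal.Quotient.mkₐ_surjective A I
    have hK₁ : RingHom.ker π₁.toRingHom ^ p = ⊥ := by
      have h1 : RingHom.ker π₁.toRingHom = I := Ideal.Quotient.mkₐ_ker A I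
      rw [h1, hI, ← pow_mul, ← pow_succ]
      exact hK
    let π₂ : E ⧸ I →ₐ[A] E₀ := Ideal.Quotient.liftₐ I π (fun a ha => hIK ha)
    have hπ₂π₁ : ∀ e, π₂ (π₁ e) = π e := fun e => rfl
    have hπ₂ : Function.Surjective π₂ := by
      intro e₀
      obtain ⟨e, rfl⟩ := hπ e₀
      exact ⟨π₁ e, rfl⟩
    have hK₂ : RingHom.ker π₂.toRingHom ^ (p ^ k) = ⊥ := by
      have h1 : RingHom.ker π₂.toRingHom ≤ K.map (Ideal.Quotient.mk I) := by
        intro y hy
        obtain ⟨e, rfl⟩ := Ideal.Quotient.mk_surjective y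
        have h2 : π e = 0 := hy
        exact Ideal.mem_map_of_mem _ h2
      rw [eq_bot_iff]
      refine (Ideal.pow_right_mono h1 _).trans ?_
      rw [← Ideal.map_pow, ← hI, Ideal.map_quotient_self]
    obtain ⟨w₁, ⟨hw₁a, hw₁b⟩, hw₁u⟩ := ih π₂ hπ₂ hK₂ v (fun i => π₁ (z i)) (fun i => by
      rw [hπ₂π₁, hz])
    obtain ⟨w, ⟨hwa, hwb⟩, hwu⟩ := lift_step x hx π₁ hπ₁ hK₁ w₁ z (fun i => (hw₁b i).symm)
    refine ⟨w, ⟨?_, hwb⟩, ?_⟩
    · apply AlgHom.ext
      intro b
      rw [AlgHom.comp_apply, ← hπ₂π₁, ← AlgHom.comp_apply π₁, hwa]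
      exact congr($hw₁a b)
    · rintro w' ⟨hw'a, hw'b⟩
      apply hwu
      refine ⟨?_, hw'b⟩
      apply hw₁u
      refine ⟨?_, fun i => ?_⟩
      · apply AlgHom.ext
        intro b
        rw [AlgHom.comp_apply, AlgHom.comp_apply, hπ₂π₁]
        exact congr($hw'a b)
      · rw [AlgHom.comp_apply, hw'b]

theorem main4541 (hx : IsPBasis p A x) :
    Algebra.FormallySmooth A B ∧
    ∀ (E : Type u) [CommRing E] [Algebra A E] (R : Ideal E), IsNilpotent R →
      ∀ (v : B →ₐ[A] E ⧸ R) (z : ι → E), (∀ i, Ideal.Quotient.mk R (z i) = v (x i)) →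
        ∃! w : B →ₐ[A] E, (Ideal.Quotient.mkₐ A R).comp w = v ∧ ∀ i, w (x i) = z i := by
  have key : ∀ (E : Type u) [CommRing E] [Algebra A E] (R : Ideal E), IsNilpotent R →
      ∀ (v : B →ₐ[A] E ⧸ R) (z : ι → E), (∀ i, Ideal.Quotient.mk R (z i) = v (x i)) →
        ∃! w : B →ₐ[A] E, (Ideal.Quotient.mkₐ A R).comp w = v ∧ ∀ i, w (x i) = z i := by
    intro E _ _ R ⟨n, hn⟩ v z hz
    apply lift_pow x hx n (Ideal.Quotient.mkₐ A R) (Ideal.Quotient.mkₐ_surjective A R) _ v z hz
    have h1 : RingHom.ker (Ideal.Quotient.mkₐ A R).toRingHom = R := Ideal.Quotient.mkₐ_ker A R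
    rw [h1, eq_bot_iff]
    have h2 : n ≤ p ^ n := (Nat.lt_pow_self hpp.out.one_lt).le
    exact (Ideal.pow_le_pow_right h2).trans hn.le
  refine ⟨?_, key⟩
  apply Algebra.FormallySmooth.of_comp_surjective
  intro E _ _ I hI v
  choose z hz using fun i => Ideal.Quotient.mk_surjective (v (x i))
  obtain ⟨w, ⟨hw, -⟩, -⟩ := key E I ⟨2, hI⟩ v z hz
  exact ⟨w, hw⟩

end perfect2

end H5.PB
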