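import Mathlib
import Groth.Agent.Lib.Helper5.PB.PB12

set_option autoImplicit false
universe u

open EGA41 MvPolynomial

namespace H5.PB

open Groth.Agent.H2.PGen (pMonomial_zero pMonomial_add pMonomial_single pow_p_mem)

section field
variable (p : ℕ) [hpp : Fact p.Prime] {K : Type u} [Field K] [CharP K p] {ι : Type u} (a : ι → K)

/-- if the `a_i` are `p`-independent over `K^p`, then `K[T]/(T_i^p - a_i)` is a field. -/
theorem relIdeal_isMaximal
    (hind : LinearIndependent (↥(frobenius K p).fieldRange)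
      (fun e : {e : ι →₀ ℕ // ∀ i, e i < p} => pMonomial a e.1)) :
    (relIdeal p a).IsMaximal := by
  let Kb := AlgebraicClosure K
  haveI : CharP Kb p := charP_of_injective_algebraMap (algebraMap K Kb).injective p
  let j : K →+* Kb := ((frobeniusEquiv Kb p).symm : Kb →+* Kb).comp (algebraMap K Kb)
  have hj : ∀ m, (j m) ^ p = algebraMap K Kb m := fun m => frobeniusEquiv_symm_pow_p Kb p _
  let x : ι → Kb := fun i => j (a i)
  let i₀ : K → ↥(frobenius K p).fieldRange := fun k => ⟨k ^ p, ⟨k, rfl⟩⟩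
  have hLI : LinearIndependent K (fun e : {e : ι →₀ ℕ // ∀ i, e i < p} => pMonomial x e.1) := by
    have h1 := hind.map_of_injective_injective i₀ j.toAddMonoidHom (fun r hr => by
        have : r ^ p = 0 := congrArg Subtype.val hr
        exact pow_eq_zero_iff hpp.out.ne_zero |>.mp this)
      (fun m hm => by
        have : j m = 0 := hm
        exact (map_eq_zero j).mp this)
      (fun r m => by
        show j (r ^ p * m) = r • j m
        rw [map_mul, map_pow, hj, Algebra.smul_def])
    have h2 : (fun e : {e : ι →₀ ℕ // ∀ i, e i < p} => pMonomial x e.1) =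
        j.toAddMonoidHom ∘ (fun e : {e : ι →₀ ℕ // ∀ i, e i < p} => pMonomial a e.1) := by
      funext e
      exact (pMonomial_map j a e.1).symm
    rw [h2]
    exact h1
  have hker := ker_aeval_eq x a hpp.out.pos (fun i => (hj (a i)).symm) hLI
  rw [← hker]
  set g : MvPolynomial ι K →ₐ[K] Kb := MvPolynomial.aeval x with hg
  have hF : IsField g.range := Subalgebra.isField_of_algebraic g.range
  have hsurj : Function.Surjective g.rangeRestrict := g.rangeRestrict_surjective
  have e := Ideal.quotientKerAlgEquivOfSurjective hsurj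
  have hF' : IsField (MvPolynomial ι K ⧸ RingHom.ker g.rangeRestrict) :=
    e.toMulEquiv.isField hF
  have := Ideal.Quotient.maximal_of_isField _ hF'
  rwa [AlgHom.ker_rangeRestrict] at this

end field


section localring
open IsLocalRing
variable {A : Type u} [CommRing A] [IsLocalRing A] (hm : maximalIdeal A ^ 2 = ⊥) (p : ℕ)
  [hpp : Fact p.Prime] [CharP (ResidueField A) p] {ι : Type u} (c : ι → Fin p → A) (f : ι → A)

include hm in
theorem main4605
    (hind : LinearIndependent (↥(frobenius (ResidueField A) p).fieldRange)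
      (fun e : {e : ι →₀ ℕ // ∀ i, e i < p} => EGA41.pMonomial (fun i => residue A (f i)) e.1)) :
    let F : ι → MvPolynomial ι A := fun i =>
      MvPolynomial.X i ^ p + (p : MvPolynomial ι A) * (Finset.univ.sum fun j : Fin p =>
        if (j : ℕ) = 0 then 0 else MvPolynomial.C (c i j) * MvPolynomial.X i ^ (p - (j : ℕ))) -
          MvPolynomial.C (f i)
    ∃ _ : IsLocalRing (MvPolynomial ι A ⧸ Ideal.span (Set.range F)),
      maximalIdeal (MvPolynomial ι A ⧸ Ideal.span (Set.range F)) =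
        (maximalIdeal A).map (algebraMap A (MvPolynomial ι A ⧸ Ideal.span (Set.range F))) := by
  intro F
  set 𝔞 := Ideal.span (Set.range F) with h𝔞
  let ρ : MvPolynomial ι A →+* MvPolynomial ι (ResidueField A) := MvPolynomial.map (residue A)
  have hρsurj : Function.Surjective ρ := MvPolynomial.map_surjective _ residue_surjective
  have hρF : ∀ i, ρ (F i) = X i ^ p - C (residue A (f i)) := by
    intro i
    show ρ (X i ^ p + (p : MvPolynomial ι A) * _ - C (f i)) = _
    rw [map_sub, map_add, map_mul, map_natCast, CharP.cast_eq_zero, zero_mul, add_zero,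
      map_pow]
    show (MvPolynomial.map (residue A)) (X i) ^ p - (MvPolynomial.map (residue A)) (C (f i)) = _
    rw [MvPolynomial.map_X, MvPolynomial.map_C]
  have hmap : 𝔞.map ρ = relIdeal p (fun i => residue A (f i)) := by
    rw [h𝔞, Ideal.map_span]
    unfold relIdeal
    congr 1
    ext g
    constructor
    · rintro ⟨_, ⟨i, rfl⟩, rfl⟩
      exact ⟨i, (hρF i).symm⟩
    · rintro ⟨i, rfl⟩
      exact ⟨F i, ⟨i, rfl⟩, hρF i⟩
  haveI hmaxK : (relIdeal p (fun i => residue A (f i))).IsMaximal := relIdeal_isMaximal p _ hind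
  set 𝔐 := (relIdeal p (fun i => residue A (f i))).comap ρ with h𝔐def
  have h𝔐max : 𝔐.IsMaximal := Ideal.comap_isMaximal_of_surjective ρ hρsurj
  have h𝔐 : 𝔐 = 𝔞 ⊔ (maximalIdeal A).map (C : A →+* MvPolynomial ι A) := by
    rw [h𝔐def, ← hmap, Ideal.comap_map_of_surjective ρ hρsurj]
    congr 1
    have : Ideal.comap ρ ⊥ = RingHom.ker ρ := rfl
    rw [this, MvPolynomial.ker_map, IsLocalRing.ker_residue]
  set Q := MvPolynomial ι A ⧸ 𝔞 with hQ
  set 𝔫 : Ideal Q := (maximalIdeal A).map (algebraMap A Q) with h𝔫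
  have h𝔫' : 𝔫 = ((maximalIdeal A).map (C : A →+* MvPolynomial ι A)).map (Ideal.Quotient.mk 𝔞) := by
    rw [Ideal.map_map]
    rfl
  have h𝔐𝔫 : 𝔐.map (Ideal.Quotient.mk 𝔞) = 𝔫 := by
    rw [h𝔐, Ideal.map_sup, Ideal.map_quotient_self, bot_sup_eq, h𝔫']
  have h𝔫max : 𝔫.IsMaximal := by
    rcases Ideal.map_eq_top_or_isMaximal_of_surjective (Ideal.Quotient.mk 𝔞)
      Ideal.Quotient.mk_surjective h𝔐max with h | h
    · exfalso
      have h1 := Ideal.comap_map_of_surjective (Ideal.Quotient.mk 𝔞) Ideal.Quotient.mk_surjective 𝔐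
      rw [h, Ideal.comap_top] at h1
      have h2 : Ideal.comap (Ideal.Quotient.mk 𝔞) ⊥ ≤ 𝔐 := by
        have : Ideal.comap (Ideal.Quotient.mk 𝔞) ⊥ = RingHom.ker (Ideal.Quotient.mk 𝔞) := rfl
        rw [this, Ideal.mk_ker, h𝔐]
        exact le_sup_left
      rw [sup_eq_left.mpr h2] at h1
      exact h𝔐max.ne_top h1.symm
    · rwa [h𝔐𝔫] at h
  have h𝔫sq : 𝔫 ^ 2 = ⊥ := by
    rw [h𝔫, ← Ideal.map_pow, hm, Ideal.map_bot]
  have huniq : ∀ 𝔮 : Ideal Q, 𝔮.IsMaximal → 𝔮 = 𝔫 := by
    intro 𝔮 h𝔮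
    have h1 : 𝔫 ≤ 𝔮 := h𝔮.isPrime.le_of_pow_le (n := 2) (by rw [h𝔫sq]; exact bot_le)
    exact (h𝔫max.eq_of_le h𝔮.ne_top h1).symm
  have hloc : IsLocalRing Q := IsLocalRing.of_unique_max_ideal ⟨𝔫, h𝔫max, huniq⟩
  exact ⟨hloc, (IsLocalRing.eq_maximalIdeal h𝔫max).symm⟩

end localring

end H5.PB
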