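import Mathlib
import Groth.Agent.Lib.Helper5.PB.PB13

set_option autoImplicit false
universe u

open EGA41

namespace H5.PB

open Groth.Agent.H2.PGen (pMonomial_zero pMonomial_add pMonomial_single pow_p_mem)

section frobLift
variable (p : ℕ) [hpp : Fact p.Prime] {A B : Type u} [CommRing A] [CommRing B] [Algebra A B]
  [CharP B p] (hinj : Function.Injective (algebraMap A B))
  (hpow : ∀ b : B, b ^ p ∈ Set.range (algebraMap A B))

/-- Frobenius of `B`, viewed as a map into `A ⊇ B^p`. -/
noncomputable def frobLift : B →+* A where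
  toFun b := (hpow b).choose
  map_one' := hinj (by rw [(hpow 1).choose_spec, one_pow, map_one])
  map_mul' b c := hinj (by
    rw [(hpow (b * c)).choose_spec, map_mul, (hpow b).choose_spec, (hpow c).choose_spec, mul_pow])
  map_zero' := hinj (by rw [(hpow 0).choose_spec, zero_pow hpp.out.ne_zero, map_zero])
  map_add' b c := hinj (by
    rw [(hpow (b + c)).choose_spec, map_add, (hpow b).choose_spec, (hpow c).choose_spec,
      add_pow_char])

theorem algebraMap_frobLift (b : B) : algebraMap A B (frobLift p hinj hpow b) = b ^ p :=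
  (hpow b).choose_spec

theorem frobLift_algebraMap (a : A) : frobLift p hinj hpow (algebraMap A B a) = a ^ p := by
  apply hinj
  rw [algebraMap_frobLift, map_pow]

theorem frobLift_injective [IsReduced B] : Function.Injective (frobLift p hinj hpow) := by
  rw [injective_iff_map_eq_zero]
  intro b hb
  have h1 : b ^ p = 0 := by
    rw [← algebraMap_frobLift p hinj hpow, hb, map_zero]
  exact IsReduced.eq_zero _ ⟨p, h1⟩

theorem frobLift_eq_of_algebraMap_eq (b : B) (a : A) (h : algebraMap A B a = b ^ p) :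
    frobLift p hinj hpow b = a := by
  apply hinj
  rw [algebraMap_frobLift, h]

end frobLift


section absBasis
variable (p : ℕ) [hpp : Fact p.Prime] {R A B : Type u} [CommRing R] [CommRing A] [CommRing B]
  [Algebra R A] [Algebra A B] [Algebra R B] [IsScalarTower R A B] [CharP B p]
  (hinj : Function.Injective (algebraMap A B))
  (hpow : ∀ b : B, b ^ p ∈ Set.range (algebraMap A B))
  (hR : Set.range (algebraMap R B) = Set.range fun b : B => b ^ p)

include hinj hR in
theorem mem_pPower_R_iff (a : A) :
    a ∈ pPowerSubalgebra p R A ↔ ∃ b : B, algebraMap A B a = b ^ p := by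
  constructor
  · intro ha
    induction ha using Algebra.adjoin_induction with
    | mem a ha =>
      obtain ⟨a₀, rfl⟩ := ha
      exact ⟨algebraMap A B a₀, map_pow _ _ _⟩
    | algebraMap r =>
      have h1 : algebraMap R B r ∈ Set.range fun b : B => b ^ p := by
        rw [← hR]; exact ⟨r, rfl⟩
      obtain ⟨b, hb⟩ := h1
      exact ⟨b, by rw [← IsScalarTower.algebraMap_apply]; exact hb.symm⟩
    | add a c _ _ ha hc =>
      obtain ⟨b, hb⟩ := ha
      obtain ⟨d, hd⟩ := hc
      exact ⟨b + d, by rw [map_add, hb, hd, add_pow_char]⟩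
    | mul a c _ _ ha hc =>
      obtain ⟨b, hb⟩ := ha
      obtain ⟨d, hd⟩ := hc
      exact ⟨b * d, by rw [map_mul, hb, hd, mul_pow]⟩
  · rintro ⟨b, hb⟩
    have h1 : b ^ p ∈ Set.range (algebraMap R B) := by
      rw [hR]; exact ⟨b, rfl⟩
    obtain ⟨r, hr⟩ := h1
    have h2 : a = algebraMap R A r := by
      apply hinj
      rw [hb, ← hr, ← IsScalarTower.algebraMap_apply]
    rw [h2]
    exact Subalgebra.algebraMap_mem _ r

/-- the subring `A^p`. -/
noncomputable def powSubring (A : Type u) [CommRing A] [CharP A p] : Subring A :=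
  (frobenius A p).range

theorem mem_powSubring {A : Type u} [CommRing A] [CharP A p] (a : A) :
    a ∈ powSubring p A ↔ ∃ a' : A, a' ^ p = a := by
  unfold powSubring
  rw [RingHom.mem_range]
  rfl

variable [IsReduced B] {Λ M : Type u} (x : Λ → B) (hx : IsPBasis p A x) (x' : Λ → A)
  (hx' : ∀ i, algebraMap A B (x' i) = x i ^ p) (y : M → A) (hy : IsPBasis p R y)

include hinj hpow hR hx hx' hy in
/-- `(x', y)` is `p`-free in `A` over `A^p`. -/
theorem linearIndependent_abs [CharP A p] :
    LinearIndependent (powSubring p A)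
      (fun e : {e : Λ ⊕ M →₀ ℕ // ∀ i, e i < p} => pMonomial (Sum.elim x' y) e.1) := by
  classical
  set A₁ := powSubring p A with hA₁
  set R₁ := pPowerSubalgebra p R A with hR₁
  set A₂ := pPowerSubalgebra p A B with hA₂
  have hA₁R₁ : ∀ a : A, a ∈ A₁ → a ∈ R₁ := by
    intro a ha
    obtain ⟨a', rfl⟩ := (mem_powSubring p a).mp ha
    exact pow_p_mem p a'
  let incl : A₁ →+* R₁ :=
    { toFun := fun u => ⟨u.1, hA₁R₁ u.1 u.2⟩
      map_one' := rfl
      map_mul' := fun _ _ => rfl
      map_zero' := rfl
      map_add' := fun _ _ => rfl }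
  letI : Algebra A₁ R₁ := incl.toAlgebra
  haveI : IsScalarTower A₁ R₁ A := IsScalarTower.of_algebraMap_eq (fun c => rfl)
  set φ := frobLift p hinj hpow with hφ
  have hφx : ∀ i, φ (x i) = x' i := fun i =>
    frobLift_eq_of_algebraMap_eq p hinj hpow (x i) (x' i) (hx' i)
  let j : B →+ R₁ :=
    { toFun := fun b => ⟨φ b, (mem_pPower_R_iff p hinj hR _).mpr
        ⟨b, algebraMap_frobLift p hinj hpow b⟩⟩
      map_zero' := Subtype.ext (map_zero φ)
      map_add' := fun b c => Subtype.ext (map_add φ b c) }
  have hiu : ∀ u : A₂, φ u.1 ∈ A₁ := by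
    intro u
    obtain ⟨a, ha⟩ := (mem_pPowerSubalgebra_iff p hpow u.1).mp u.2
    rw [← ha, hφ, frobLift_algebraMap]
    exact (mem_powSubring p _).mpr ⟨a, rfl⟩
  let i : A₂ → A₁ := fun u => ⟨φ u.1, hiu u⟩
  have hi : Function.Surjective i := by
    intro a₁
    obtain ⟨a', ha'⟩ := (mem_powSubring p a₁.1).mp a₁.2
    refine ⟨⟨algebraMap A B a', Subalgebra.algebraMap_mem _ a'⟩, Subtype.ext ?_⟩
    show φ (algebraMap A B a') = a₁.1
    rw [hφ, frobLift_algebraMap, ha']
  have hj : ∀ b, j b = 0 → b = 0 := by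
    intro b hb
    have h1 : φ b = 0 := congrArg Subtype.val hb
    exact (injective_iff_map_eq_zero _).mp (frobLift_injective p hinj hpow) b h1
  have hc : ∀ (u : A₂) (b : B), j (u • b) = i u • j b := by
    intro u b
    apply Subtype.ext
    show φ (u.1 * b) = φ u.1 * φ b
    exact map_mul φ _ _
  have hb := hx.1.map_of_surjective_injective i j hi hj hc
  have hcy : LinearIndependent R₁ (fun f : {f : M →₀ ℕ // ∀ i, f i < p} => pMonomial y f.1) :=
    hy.1
  have hbc := linearIndependent_smul hb hcy
  refine (linearIndependent_equiv' (sumEquiv p Λ M).symm ?_).mp hbc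
  funext q
  show pMonomial (Sum.elim x' y) ((sumEquiv p Λ M).symm q).1 =
    φ (pMonomial x q.1.1) * pMonomial y q.2.1
  rw [sumEquiv_symm_val, pMonomial_sumElim, pMonomial_map]
  simp only [hφx]

include hinj hpow hR hx hx' hy in
/-- `(x', y)` `p`-generates `A` over `A^p`. -/
theorem rspan_abs [CharP A p] : rspan p (powSubring p A) (Sum.elim x' y) = ⊤ := by
  have hpw : ∀ i, (Sum.elim x' y i) ^ p ∈ (algebraMap (powSubring p A) A).range := by
    intro i
    exact ⟨⟨_, (mem_powSubring p _).mpr ⟨_, rfl⟩⟩, rfl⟩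
  rw [rspan_eq_adjoin _ _ hpp.out.pos hpw]
  set T := Algebra.adjoin (powSubring p A) (Set.range (Sum.elim x' y)) with hT
  set φ := frobLift p hinj hpow with hφ
  have hφx : ∀ i, φ (x i) = x' i := fun i =>
    frobLift_eq_of_algebraMap_eq p hinj hpow (x i) (x' i) (hx' i)
  have h1 : ∀ b : B, φ b ∈ T := by
    intro b
    have hb : b ∈ Algebra.adjoin (pPowerSubalgebra p A B) (Set.range x) := by
      rw [(Groth.Agent.H2.PGen.adjoin_eq_top_iff p x).mpr hx.2]; exact Algebra.mem_top
    induction hb using Algebra.adjoin_induction with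
    | mem b hb =>
      obtain ⟨i, rfl⟩ := hb
      rw [hφx]
      exact Algebra.subset_adjoin ⟨Sum.inl i, rfl⟩
    | algebraMap u =>
      obtain ⟨a, ha⟩ := (mem_pPowerSubalgebra_iff p hpow u.1).mp u.2
      show φ u.1 ∈ T
      rw [← ha, hφ, frobLift_algebraMap]
      exact T.algebraMap_mem (⟨a ^ p, (mem_powSubring p _).mpr ⟨a, rfl⟩⟩ : powSubring p A)
    | add b c _ _ hb hc => rw [map_add]; exact T.add_mem hb hc
    | mul b c _ _ hb hc => rw [map_mul]; exact T.mul_mem hb hc
  have h2 : ∀ a : A, a ∈ pPowerSubalgebra p R A → a ∈ T := by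
    intro a ha
    obtain ⟨b, hb⟩ := (mem_pPower_R_iff p hinj hR a).mp ha
    have : a = φ b := (frobLift_eq_of_algebraMap_eq p hinj hpow b a hb).symm
    rw [this]
    exact h1 b
  have h3 : T = ⊤ := by
    rw [eq_top_iff]
    intro a ha0
    clear ha0
    have ha : a ∈ Algebra.adjoin (pPowerSubalgebra p R A) (Set.range y) := by
      rw [(Groth.Agent.H2.PGen.adjoin_eq_top_iff p y).mpr hy.2]; exact Algebra.mem_top
    induction ha using Algebra.adjoin_induction with
    | mem a ha =>
      obtain ⟨i, rfl⟩ := ha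
      exact Algebra.subset_adjoin ⟨Sum.inr i, rfl⟩
    | algebraMap u => exact h2 u.1 u.2
    | add b c _ _ hb hc => exact T.add_mem hb hc
    | mul b c _ _ hb hc => exact T.mul_mem hb hc
  rw [h3]
  rfl

end absBasis


section kaehlerBasis
variable {p : ℕ} [hpp : Fact p.Prime] {k : Type*} [CommRing k] {C₀ A : Type u} [CommRing C₀]
  [CommRing A] [Algebra C₀ A] [Algebra k A] [CharP C₀ p] {ι : Type u} (w : ι → A) (c : ι → C₀)
  (hc : ∀ i, algebraMap C₀ A (c i) = w i ^ p)
  (hLI : LinearIndependent C₀ (fun e : {e : ι →₀ ℕ // ∀ i, e i < p} => pMonomial w e.1))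
  (hsp : rspan p C₀ w = ⊤)
  (h0 : ∀ c : C₀, KaehlerDifferential.D k A (algebraMap C₀ A c) = 0)
  (h1 : ∀ r : k, algebraMap k A r ∈ Set.range (algebraMap C₀ A))

/-- a `C₀`-derivation is a `k`-derivation when the image of `k` lies in that of `C₀`. -/
noncomputable def derivOfBase (d : Derivation C₀ A A)
    (h1 : ∀ r : k, algebraMap k A r ∈ Set.range (algebraMap C₀ A)) : Derivation k A A where
  toLinearMap :=
    { toFun := d
      map_add' := map_add d
      map_smul' := fun r a => by
        obtain ⟨c, hc⟩ := h1 r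
        have h2 : r • a = algebraMap C₀ A c * a := by rw [hc, Algebra.smul_def]
        rw [h2, Derivation.leibniz, Derivation.map_algebraMap, smul_zero, add_zero,
          RingHom.id_apply, smul_eq_mul, hc, ← Algebra.smul_def] }
  map_one_eq_zero' := d.map_one_eq_zero
  leibniz' := d.leibniz

theorem derivOfBase_apply (d : Derivation C₀ A A)
    (h1 : ∀ r : k, algebraMap k A r ∈ Set.range (algebraMap C₀ A)) (a : A) :
    derivOfBase d h1 a = d a := rfl

include hc hLI hsp h1 in
theorem linearIndependent_D_gen :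
    LinearIndependent A (fun i => KaehlerDifferential.D k A (w i)) := by
  classical
  rw [linearIndependent_iff']
  intro s g hg j hj
  let dj : Derivation k A A := derivOfBase (partialD w c hc hLI hsp j) h1
  have h2 := congrArg dj.liftKaehlerDifferential hg
  rw [map_sum, map_zero] at h2
  have h3 : ∀ i ∈ s, dj.liftKaehlerDifferential (g i • KaehlerDifferential.D k A (w i)) =
      if j = i then g i else 0 := by
    intro i _
    rw [map_smul, Derivation.liftKaehlerDifferential_comp_D]
    show g i • (partialD w c hc hLI hsp j) (w i) = _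
    rw [partialD_apply]
    split_ifs <;> simp
  rw [Finset.sum_congr rfl h3, Finset.sum_ite_eq s j] at h2
  simpa [hj] using h2

omit hpp in
theorem D_pMonomial_mem_gen (e : ι →₀ ℕ) :
    KaehlerDifferential.D k A (pMonomial w e) ∈
      Submodule.span A (Set.range fun i => KaehlerDifferential.D k A (w i)) := by
  classical
  induction e using Finsupp.induction with
  | zero =>
    rw [pMonomial_zero, Derivation.map_one_eq_zero]
    exact Submodule.zero_mem _
  | single_add i n f _ _ ih =>
    rw [pMonomial_add, pMonomial_single, Derivation.leibniz, Derivation.leibniz_pow]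
    refine Submodule.add_mem _ (Submodule.smul_mem _ _ ih) (Submodule.smul_mem _ _ ?_)
    refine Submodule.smul_of_tower_mem _ n (Submodule.smul_mem _ _ ?_)
    exact Submodule.subset_span ⟨i, rfl⟩

omit hpp in
include hsp h0 in
theorem span_D_gen :
    Submodule.span A (Set.range fun i => KaehlerDifferential.D k A (w i)) = ⊤ := by
  rw [eq_top_iff, ← KaehlerDifferential.span_range_derivation, Submodule.span_le]
  rintro _ ⟨a, rfl⟩
  have ha : a ∈ rspan p C₀ w := by rw [hsp]; exact Submodule.mem_top
  show KaehlerDifferential.D k A a ∈ _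
  unfold rspan at ha
  induction ha using Submodule.span_induction with
  | mem y hy =>
    obtain ⟨⟨e, -⟩, rfl⟩ := hy
    exact D_pMonomial_mem_gen w e
  | zero => rw [map_zero]; exact Submodule.zero_mem _
  | add y z _ _ hy hz => rw [map_add]; exact Submodule.add_mem _ hy hz
  | smul c y _ hy =>
    rw [Algebra.smul_def, Derivation.leibniz, h0, smul_zero, add_zero]
    exact Submodule.smul_mem _ _ hy

end kaehlerBasis


section kerSpan
open Finsupp
theorem ker_le_span_inl {B V W Λ M : Type*} [CommRing B] [AddCommGroup V] [Module B V]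
    [AddCommGroup W] [Module B W] (bT : Module.Basis (Λ ⊕ M) B V) (Ψ : V →ₗ[B] W)
    (hl : ∀ l, Ψ (bT (Sum.inl l)) = 0)
    (hr : LinearIndependent B (fun m => Ψ (bT (Sum.inr m)))) :
    LinearMap.ker Ψ ≤ Submodule.span B (Set.range fun l => bT (Sum.inl l)) := by
  classical
  intro ω hω
  rw [LinearMap.mem_ker] at hω
  set l := bT.repr ω with hl_def
  set l₁ := l.filter (fun i => i.isLeft = true) with hl₁
  set l₂ := l.filter (fun i => ¬ (i.isLeft = true)) with hl₂
  have hsum : l₁ + l₂ = l := Finsupp.filter_pos_add_filter_neg l _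
  have hω' : ω = linearCombination B bT l₁ + linearCombination B bT l₂ := by
    rw [← map_add, hsum, hl_def, bT.linearCombination_repr]
  have h1 : Ψ (linearCombination B bT l₁) = 0 := by
    rw [apply_linearCombination, linearCombination_apply, Finsupp.sum]
    apply Finset.sum_eq_zero
    intro i hi
    rw [hl₁, Finsupp.support_filter, Finset.mem_filter] at hi
    rcases i with i | i
    · rw [Function.comp_apply, hl, smul_zero]
    · simp at hi
  have h2 : linearCombination B (Ψ ∘ bT) l₂ = 0 := by
    rw [← apply_linearCombination]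
    have := hω
    rw [hω', map_add, h1, zero_add] at this
    exact this
  have h3 : LinearIndepOn B (Ψ ∘ bT) (Set.range (Sum.inr : M → Λ ⊕ M)) :=
    (linearIndepOn_range_iff Sum.inr_injective _).mpr hr
  have h4 : l₂ ∈ Finsupp.supported B B (Set.range (Sum.inr : M → Λ ⊕ M)) := by
    rw [Finsupp.mem_supported]
    intro i hi
    rw [hl₂, Finsupp.support_filter, Finset.coe_filter] at hi
    rcases i with i | i
    · simp at hi
    · exact ⟨i, rfl⟩
  have h5 : l₂ = 0 := linearIndepOn_iff.mp h3 l₂ h4 h2
  rw [hω', h5, map_zero, add_zero]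
  have h6 : (Set.range fun l => bT (Sum.inl l)) = bT '' (Set.range (Sum.inl : Λ → Λ ⊕ M)) := by
    rw [← Set.range_comp]; rfl
  rw [h6, Finsupp.mem_span_image_iff_linearCombination]
  refine ⟨l₁, ?_, rfl⟩
  rw [Finsupp.mem_supported]
  intro i hi
  rw [hl₁, Finsupp.support_filter, Finset.coe_filter] at hi
  rcases i with i | i
  · exact ⟨i, rfl⟩
  · simp at hi

end kerSpan

section main4520
open TensorProduct
variable (p : ℕ) [hpp : Fact p.Prime] {R A B : Type u} [CommRing R] [CommRing A] [CommRing B]
  [IsReduced B] [Algebra R A] [Algebra A B] [Algebra R B] [IsScalarTower R A B] [CharP B p]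
  (hinj : Function.Injective (algebraMap A B))
  (hpow : ∀ b : B, b ^ p ∈ Set.range (algebraMap A B))
  (hR : Set.range (algebraMap R B) = Set.range fun b : B => b ^ p)
  {Λ M : Type u} (x : Λ → B) (hx : IsPBasis p A x) (x' : Λ → A)
  (hx' : ∀ i, algebraMap A B (x' i) = x i ^ p) (y : M → A) (hy : IsPBasis p R y)

include hinj hpow hR hx hx' hy in
theorem main4520 :
    ∃ b : Module.Basis Λ B (EGA41.imperfection ℤ A B),
      ∀ i, (b i : B ⊗[A] Ω[A⁄ℤ]) = (1 : B) ⊗ₜ[A] KaehlerDifferential.D ℤ A (x' i) := by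
  classical
  haveI : CharP A p := charP_base p hinj
  haveI : CharP (powSubring p A) p :=
    (RingHom.charP_iff (powSubring p A).subtype Subtype.val_injective p).mpr inferInstance
  set w : Λ ⊕ M → A := Sum.elim x' y with hw
  let c : Λ ⊕ M → powSubring p A := fun i => ⟨w i ^ p, (mem_powSubring p _).mpr ⟨w i, rfl⟩⟩
  have hc : ∀ i, algebraMap (powSubring p A) A (c i) = w i ^ p := fun i => rfl
  have hLI := linearIndependent_abs p hinj hpow hR x hx x' hx' y hy
  have hsp := rspan_abs p hinj hpow hR x hx x' hx' y hy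
  have h0 : ∀ c : powSubring p A,
      KaehlerDifferential.D ℤ A (algebraMap (powSubring p A) A c) = 0 := by
    intro c
    obtain ⟨a', ha'⟩ := (mem_powSubring p c.1).mp c.2
    show KaehlerDifferential.D ℤ A c.1 = 0
    rw [← ha', Derivation.leibniz_pow, ← Nat.cast_smul_eq_nsmul A, CharP.cast_eq_zero, zero_smul]
  have h1 : ∀ n : ℤ, algebraMap ℤ A n ∈ Set.range (algebraMap (powSubring p A) A) := by
    intro n
    have h2 := map_intCast (frobenius A p) n
    rw [frobenius_def] at h2
    refine ⟨⟨(n : A), (mem_powSubring p _).mpr ⟨(n : A), h2⟩⟩, ?_⟩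
    show (n : A) = algebraMap ℤ A n
    exact (eq_intCast (algebraMap ℤ A) n).symm
  have hLIA := linearIndependent_D_gen (k := ℤ) w c hc hLI hsp h1
  have hspA := span_D_gen (k := ℤ) w hsp h0
  let bA : Module.Basis (Λ ⊕ M) A (Ω[A⁄ℤ]) := Module.Basis.mk hLIA hspA.ge
  have hbA : ∀ i, bA i = KaehlerDifferential.D ℤ A (w i) := fun i => Module.Basis.mk_apply _ _ i
  let bT : Module.Basis (Λ ⊕ M) B (B ⊗[A] Ω[A⁄ℤ]) := bA.baseChange B
  have hbT : ∀ i, bT i = (1 : B) ⊗ₜ[A] KaehlerDifferential.D ℤ A (w i) := by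
    intro i
    rw [Module.Basis.baseChange_apply, hbA]
  -- independence in `B`
  have hpowR : ∀ b : B, b ^ p ∈ Set.range (algebraMap R B) := by
    intro b
    rw [hR]; exact ⟨b, rfl⟩
  have hIB := (isPIndependent_sum_iff p y x hinj hpowR hy).mp hx.1
  have hGB := isPGenerating_sum p y x hy.2 hx.2
  have hLIB := linearIndependent_D p _ ⟨hIB, hGB⟩
  have hLIB' : LinearIndependent B
      (fun μ => KaehlerDifferential.D ℤ B (algebraMap A B (y μ))) := by
    refine LinearIndependent.of_comp (KaehlerDifferential.map ℤ R B B) ?_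
    have h2 : (KaehlerDifferential.map ℤ R B B) ∘
        (fun μ => KaehlerDifferential.D ℤ B (algebraMap A B (y μ))) =
        (fun i => KaehlerDifferential.D R B
          (Sum.elim (fun μ => algebraMap A B (y μ)) x i)) ∘ Sum.inl := by
      funext μ
      simp only [Function.comp_apply, KaehlerDifferential.map_D, Sum.elim_inl]
      rfl
    rw [h2]
    exact hLIB.comp Sum.inl Sum.inl_injective
  set Ψ := KaehlerDifferential.mapBaseChange ℤ A B with hΨ
  have hΨ1 : ∀ a : A, Ψ ((1 : B) ⊗ₜ[A] KaehlerDifferential.D ℤ A a) =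
      KaehlerDifferential.D ℤ B (algebraMap A B a) := by
    intro a
    rw [hΨ, KaehlerDifferential.mapBaseChange_tmul, one_smul, KaehlerDifferential.map_D]
  have hΨl : ∀ l, Ψ (bT (Sum.inl l)) = 0 := by
    intro l
    rw [hbT, hΨ1]
    show KaehlerDifferential.D ℤ B (algebraMap A B (x' l)) = 0
    rw [hx', Derivation.leibniz_pow, ← Nat.cast_smul_eq_nsmul B, CharP.cast_eq_zero, zero_smul]
  have hΨr : LinearIndependent B (fun m => Ψ (bT (Sum.inr m))) := by
    have : (fun m => Ψ (bT (Sum.inr m))) =
        fun μ => KaehlerDifferential.D ℤ B (algebraMap A B (y μ)) := by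
      funext m
      rw [hbT, hΨ1]
      rfl
    rw [this]
    exact hLIB'
  have hker := ker_le_span_inl bT Ψ hΨl hΨr
  -- the family in the kernel
  have hmem : ∀ l, (1 : B) ⊗ₜ[A] KaehlerDifferential.D ℤ A (x' l) ∈ EGA41.imperfection ℤ A B := by
    intro l
    have := hΨl l
    rw [hbT] at this
    exact this
  let v : Λ → EGA41.imperfection ℤ A B := fun l => ⟨_, hmem l⟩
  have hvLI : LinearIndependent B v := by
    refine LinearIndependent.of_comp (EGA41.imperfection ℤ A B).subtype ?_
    have h2 : (EGA41.imperfection ℤ A B).subtype ∘ v = bT ∘ Sum.inl := by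
      funext l
      exact (hbT (Sum.inl l)).symm
    rw [h2]
    exact bT.linearIndependent.comp Sum.inl Sum.inl_injective
  have hvsp : ⊤ ≤ Submodule.span B (Set.range v) := by
    intro ω _
    have h2 : (ω : B ⊗[A] Ω[A⁄ℤ]) ∈ Submodule.span B (Set.range fun l => bT (Sum.inl l)) :=
      hker ω.2
    have h3 : (Set.range fun l => bT (Sum.inl l)) =
        (EGA41.imperfection ℤ A B).subtype '' (Set.range v) := by
      rw [← Set.range_comp]
      congr 1
      funext l
      exact hbT (Sum.inl l)
    rw [h3, ← Submodule.map_span] at h2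
    obtain ⟨ω', hω', hωω'⟩ := h2
    have : ω' = ω := Subtype.ext hωω'
    rw [← this]
    exact hω'
  refine ⟨Module.Basis.mk hvLI hvsp, fun i => ?_⟩
  rw [Module.Basis.mk_apply]

end main4520

end H5.PB
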