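import Mathlib
import Groth.Agent.Lib.Helper5.PB.PB14

set_option autoImplicit false
universe u

open EGA41

namespace H5.PB

section
variable (p : ℕ) [hpp : Fact p.Prime] (k K : Type u) [Field k] [Field K] [Algebra k K]
  [CharP K p]

/-- every extension of fields of characteristic `p` has a `p`-basis. -/
theorem exists_pBasis : ∃ B : Set K, IsPBasis p k (Subtype.val : B → K) := by
  have hp := hpp.out.pos
  obtain ⟨B, -, -, hB, hgen⟩ := exists_maximal_PFon p k (id : K → K) ∅ Set.univ
    (Set.subset_univ _) (PFon_empty p id hp)
  refine ⟨B, (PFon_iff_subtype p k id B hp).mp hB, ?_⟩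
  rw [← Groth.Agent.H2.PGen.adjoin_eq_top_iff, Subtype.range_coe, eq_top_iff]
  intro t _
  have := hgen t (Set.mem_univ t)
  rwa [Set.image_id] at this

end

/-- a linear map sending a basis to a linearly independent family is injective. -/
theorem injective_of_linearIndependent_comp_basis {R V W ι : Type*} [Ring R]
    [AddCommGroup V] [Module R V] [AddCommGroup W] [Module R W] (b : Module.Basis ι R V)
    (f : V →ₗ[R] W) (h : LinearIndependent R (f ∘ b)) : Function.Injective f := by
  have h1 : f = (Finsupp.linearCombination R (f ∘ b)) ∘ₗ b.repr.toLinearMap := by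
    apply b.ext
    intro i
    simp
  rw [h1, LinearMap.coe_comp]
  exact Function.Injective.comp h b.repr.injective

section
open TensorProduct
variable (p : ℕ) [hpp : Fact p.Prime] {R K L : Type u} [Field R] [Field K] [Field L]
  [Algebra R K] [Algebra K L] [Algebra R L] [IsScalarTower R K L] [CharP L p]

theorem main4522 (hR : Set.range (algebraMap R L) = Set.range fun y : L => y ^ p)
    (hK : ∀ y : L, y ^ p ∈ Set.range (algebraMap K L)) :
    Function.Injective (KaehlerDifferential.mapBaseChange R K L) := by
  have hinj : Function.Injective (algebraMap K L) := (algebraMap K L).injective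
  haveI : CharP K p := charP_base p hinj
  have hpowR : ∀ b : L, b ^ p ∈ Set.range (algebraMap R L) := by
    intro b
    rw [hR]; exact ⟨b, rfl⟩
  obtain ⟨BK, hy⟩ := exists_pBasis p R K
  obtain ⟨BL, hx⟩ := exists_pBasis p K L
  have hIB := (isPIndependent_sum_iff p (Subtype.val : BK → K) (Subtype.val : BL → L)
    hinj hpowR hy).mp hx.1
  have hGB := isPGenerating_sum p (Subtype.val : BK → K) (Subtype.val : BL → L) hy.2 hx.2
  have hLIL := linearIndependent_D p _ ⟨hIB, hGB⟩
  obtain ⟨bK, hbK⟩ := main2466 p (Subtype.val : BK → K) hy
  apply injective_of_linearIndependent_comp_basis (bK.baseChange L)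
  have h2 : (KaehlerDifferential.mapBaseChange R K L) ∘ (bK.baseChange L) =
      (fun i => KaehlerDifferential.D R L
        (Sum.elim (fun μ : BK => algebraMap K L μ.1) (Subtype.val : BL → L) i)) ∘ Sum.inl := by
    funext μ
    simp only [Function.comp_apply, Module.Basis.baseChange_apply, hbK,
      KaehlerDifferential.mapBaseChange_tmul, one_smul, KaehlerDifferential.map_D, Sum.elim_inl]
  rw [h2]
  exact hLIL.comp Sum.inl Sum.inl_injective

end

end H5.PB
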