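import Mathlib
import Groth.Agent.Lib.Helper5.PB.PB15

set_option autoImplicit false
universe u

open EGA41

namespace H5.PB

section
variable (p : ℕ) [hpp : Fact p.Prime] {k K : Type u} [Field k] [Field K] [Algebra k K]
  [CharP K p]

/-- `da = 0` in `Ω_{K/k}` iff `a ∈ k(K^p)`. -/
theorem D_eq_zero_iff_mem (a : K) :
    KaehlerDifferential.D k K a = 0 ↔ a ∈ pPowerSubalgebra p k K := by
  constructor
  · intro ha
    by_contra hnot
    have hp := hpp.out.pos
    let x : PUnit.{u+1} → K := fun _ => a
    have h1 : x PUnit.unit ∉ Algebra.adjoin (pPowerSubalgebra p k K) (x '' ∅) := by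
      rw [Set.image_empty, Algebra.adjoin_empty]
      intro h
      obtain ⟨c, hc⟩ := Algebra.mem_bot.mp h
      apply hnot
      have hc' : (c : K) = a := hc
      rw [← hc']
      exact c.2
    have h2 := exchange p k x ∅ PUnit.unit (Set.notMem_empty _) (PFon_empty p x hp) h1
    have h3 : insert PUnit.unit (∅ : Set PUnit.{u+1}) = Set.univ := by
      ext u; simp
    rw [h3] at h2
    have h4 := (PFon_univ_iff p k x hp).mp h2
    have h5 := linearIndependent_D_of_isPIndependent p x h4
    exact h5.ne_zero PUnit.unit ha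
  · intro ha
    exact Groth.Agent.H2.PGen.D_eq_zero_of_mem p a ha

end

theorem main2148 {k K : Type u} [Field k] [Field K] [Algebra k K] (p : ℕ) [Fact p.Prime]
    [CharP k p] [PerfectRing k p] (a : K) :
    KaehlerDifferential.D k K a = 0 ↔ ∃ b : K, b ^ p = a := by
  haveI : CharP K p := charP_of_injective_algebraMap (algebraMap k K).injective p
  rw [D_eq_zero_iff_mem p a, mem_pPowerSubalgebra_iff_perfect]

end H5.PB
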