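import Mathlib
import Groth.Agent.Lib.Helper5.PB.PB16

set_option autoImplicit false
universe u

open EGA41 TrivSqZeroExt

namespace H5.PB

section
variable {A B : Type u} [CommRing A] [CommRing B] [Algebra A B] {L : Type u} [AddCommGroup L]
  [Module B L] [Module A L] [IsScalarTower A B L]

attribute [local instance] opMod isCentralScalar_opMod

theorem qE_apply (D : Derivation ℤ A L) (z : EE B D) :
    qE D z = TrivSqZeroExt.fst (z : TrivSqZeroExt B L) := rfl

theorem qE_surjective (D : Derivation ℤ A L) : Function.Surjective (qE (B := B) D) := by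
  intro b
  exact ⟨(TrivSqZeroExt.inl b : TrivSqZeroExt B L), rfl⟩

theorem ker_qE_isNilpotent (D : Derivation ℤ A L) :
    IsNilpotent (RingHom.ker (qE (B := B) D : EE B D →+* B)) := by
  refine ⟨2, ?_⟩
  rw [pow_two, Ideal.zero_eq_bot, eq_bot_iff, Ideal.mul_le]
  intro x hx y hy
  rw [RingHom.mem_ker] at hx hy
  have hx' : TrivSqZeroExt.fst (x : TrivSqZeroExt B L) = 0 := hx
  have hy' : TrivSqZeroExt.fst (y : TrivSqZeroExt B L) = 0 := hy
  rw [Ideal.mem_bot]
  apply TrivSqZeroExt.ext
  · have := TrivSqZeroExt.fst_mul (x : TrivSqZeroExt B L) y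
    rw [hx', zero_mul] at this
    exact this
  · have := TrivSqZeroExt.snd_mul (x : TrivSqZeroExt B L) y
    rw [hx', hy', zero_smul, MulOpposite.op_zero, zero_smul, add_zero] at this
    exact this

/-- derivations of the base extend to a formally smooth algebra. -/
theorem exists_extension_of_formallySmooth [Algebra.FormallySmooth A B] (D : Derivation ℤ A L) :
    ∃ D' : Derivation ℤ B L, ∀ a : A, D' (algebraMap A B a) = D a := by
  let v : B →ₐ[A] EE B D := Algebra.FormallySmooth.liftOfSurjective (AlgHom.id A B) (qE D)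
    (qE_surjective D) (ker_qE_isNilpotent D)
  have hv : (qE D).comp v = AlgHom.id A B :=
    Algebra.FormallySmooth.comp_liftOfSurjective _ _ _ _
  have hfst : ∀ b, TrivSqZeroExt.fst (v b : TrivSqZeroExt B L) = b := fun b => congr($hv b)
  refine ⟨dOf D v hfst, fun a => ?_⟩
  rw [dOf_apply, v.commutes]
  rfl

end

end H5.PB
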