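import Mathlib

set_option autoImplicit false

namespace Groth.Agent.H5.PB

universe u

section abstract

variable {B S : Type*} [CommRing B] [CommRing S] [Algebra B S] (I : Ideal S)
  {ι : Type*} [Fintype ι] (Z : (ι → ℕ) → S)

/-- The multi-indices of total degree `k`. -/
def degSet (ι : Type*) [Fintype ι] (k : ℕ) : Set (ι → ℕ) := {p | ∑ i, p i = k}

/-- The multi-indices of total degree at most `m`. -/
def leSet (ι : Type*) [Fintype ι] (m : ℕ) : Set (ι → ℕ) := {p | ∑ i, p i ≤ m}

/-- The evaluation of a finitely supported family of coefficients on the family `Z`. -/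
noncomputable def E : ((ι → ℕ) →₀ B) →ₗ[B] S := Finsupp.linearCombination B Z

variable (hZ : ∀ p, Z p ∈ I ^ (∑ i, p i))

include hZ in
lemma E_mem (k : ℕ) (c : (ι → ℕ) →₀ B) (hc : ∀ p ∈ c.support, k ≤ ∑ i, p i) :
    E Z c ∈ I ^ k := by
  rw [E, Finsupp.linearCombination_apply, Finsupp.sum]
  refine Ideal.sum_mem _ fun p hp => ?_
  rw [Algebra.smul_def]
  exact Ideal.mul_mem_left _ _ (Ideal.pow_le_pow_right (hc p hp) (hZ p))

variable
  (H1 : ∀ (k : ℕ) (x : S), x ∈ I ^ k →
    ∃ c ∈ Finsupp.supported B B (degSet ι k), x - E Z c ∈ I ^ (k + 1))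
  (H2 : ∀ (k : ℕ) (c : (ι → ℕ) →₀ B), c ∈ Finsupp.supported B B (degSet ι k) →
    E Z c ∈ I ^ (k + 1) → c = 0)

include H1 in
lemma exists_approx (m : ℕ) : ∀ (j k : ℕ), k + j = m + 1 → ∀ x ∈ I ^ k,
    ∃ c ∈ Finsupp.supported B B (leSet ι m), x - E Z c ∈ I ^ (m + 1) := by
  intro j
  induction j with
  | zero =>
    intro k hk x hx
    refine ⟨0, Submodule.zero_mem _, ?_⟩
    rw [map_zero, sub_zero, ← hk, add_zero]
    exact hx
  | succ j ih =>
    intro k hk x hx
    obtain ⟨c₁, hc₁, h₁⟩ := H1 k x hx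
    obtain ⟨c₂, hc₂, h₂⟩ := ih (k + 1) (by omega) _ h₁
    refine ⟨c₁ + c₂, Submodule.add_mem _ ?_ hc₂, ?_⟩
    · refine Finsupp.supported_mono ?_ hc₁
      intro p hp
      have : ∑ i, p i = k := hp
      change ∑ i, p i ≤ m
      omega
    · rw [map_add, ← sub_sub]
      exact h₂

include hZ H2 in
lemma eq_zero_of_mem (m : ℕ) (c : (ι → ℕ) →₀ B) (hc : c ∈ Finsupp.supported B B (leSet ι m))
    (hE : E Z c ∈ I ^ (m + 1)) : c = 0 := by
  classical
  have key : ∀ k : ℕ, ∀ p : ι → ℕ, ∑ i, p i = k → c p = 0 := by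
    intro k
    induction k using Nat.strong_induction_on with
    | _ k ih =>
      intro p hp
      by_cases hkm : k ≤ m
      swap
      · by_contra hne
        have hps : p ∈ c.support := Finsupp.mem_support_iff.mpr hne
        have : p ∈ leSet ι m := (Finsupp.mem_supported B c).mp hc hps
        have : ∑ i, p i ≤ m := this
        omega
      -- decompose
      set c₁ := c.filter (fun q => ∑ i, q i = k) with hc₁
      set c₂ := c.filter (fun q => ¬ ∑ i, q i = k) with hc₂
      have hsum : c₁ + c₂ = c := Finsupp.filter_add_filter_not c _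
      have hc₂mem : E Z c₂ ∈ I ^ (k + 1) := by
        apply E_mem I Z hZ
        intro q hq
        rw [hc₂, Finsupp.support_filter, Finset.mem_filter] at hq
        have hq1 : c q ≠ 0 := Finsupp.mem_support_iff.mp hq.1
        have hq2 : ¬ ∑ i, q i = k := hq.2
        by_contra hlt
        have hlt' : ∑ i, q i < k := by omega
        exact hq1 (ih _ hlt' q rfl)
      have hc₁mem : E Z c₁ ∈ I ^ (k + 1) := by
        have h1 : E Z c₁ = E Z c - E Z c₂ := by
          rw [← hsum, map_add, add_sub_cancel_right]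
        rw [h1]
        exact Ideal.sub_mem _ (Ideal.pow_le_pow_right (by omega) hE) hc₂mem
      have hc₁supp : c₁ ∈ Finsupp.supported B B (degSet ι k) := by
        rw [Finsupp.mem_supported]
        intro q hq
        rw [hc₁, Finsupp.support_filter] at hq
        exact (Finset.mem_filter.mp hq).2
      have hc₁0 := H2 k c₁ hc₁supp hc₁mem
      have : c₁ p = c p := by
        rw [hc₁]
        exact Finsupp.filter_apply_pos (fun q : ι → ℕ => ∑ i, q i = k) c hp
      rw [← this, hc₁0]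
      rfl
  ext p
  exact key _ p rfl

/-- The family of classes of `Z p`, `|p| ≤ m`, modulo `I^(m+1)`. -/
noncomputable def vFam (m : ℕ) : {p : ι → ℕ // ∑ i, p i ≤ m} → S ⧸ I ^ (m + 1) :=
  fun p => Ideal.Quotient.mk (I ^ (m + 1)) (Z p.1)

lemma mk_E (m : ℕ) (c : (ι → ℕ) →₀ B) :
    Ideal.Quotient.mk (I ^ (m + 1)) (E Z c) =
      Finsupp.linearCombination B (fun p => Ideal.Quotient.mk (I ^ (m + 1)) (Z p)) c := by
  rw [E, Finsupp.linearCombination_apply, Finsupp.linearCombination_apply, Finsupp.sum,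
    Finsupp.sum, map_sum]
  refine Finset.sum_congr rfl fun p _ => ?_
  rw [Algebra.smul_def, Algebra.smul_def, map_mul]
  rfl

include hZ H2 in
theorem linearIndependent_vFam (m : ℕ) : LinearIndependent B (vFam I Z m) := by
  have h : LinearIndepOn B (fun p => Ideal.Quotient.mk (I ^ (m + 1)) (Z p)) (leSet ι m) := by
    rw [linearIndepOn_iff]
    intro c hc h0
    rw [← mk_E, Ideal.Quotient.eq_zero_iff_mem] at h0
    exact eq_zero_of_mem I Z hZ H2 m c hc h0
  exact h

include H1 in
theorem span_vFam (m : ℕ) : ⊤ ≤ Submodule.span B (Set.range (vFam I Z m)) := by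
  rintro y -
  obtain ⟨x, rfl⟩ := Ideal.Quotient.mk_surjective y
  obtain ⟨c, hc, hx⟩ := exists_approx I Z H1 m (m + 1) 0 (by omega) x (by simp)
  have h1 : Ideal.Quotient.mk (I ^ (m + 1)) x = Ideal.Quotient.mk (I ^ (m + 1)) (E Z c) :=
    Ideal.Quotient.eq.mpr hx
  rw [h1, mk_E, Finsupp.linearCombination_apply, Finsupp.sum]
  refine Submodule.sum_mem _ fun p hp => ?_
  have hp' : ∑ i, p i ≤ m := (Finsupp.mem_supported B c).mp hc hp
  exact Submodule.smul_mem _ _ (Submodule.subset_span ⟨⟨p, hp'⟩, rfl⟩)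

include hZ H1 H2 in
theorem exists_basis (m : ℕ) :
    ∃ b : Module.Basis {p : ι → ℕ // ∑ i, p i ≤ m} B (S ⧸ I ^ (m + 1)),
      ∀ p, b p = Ideal.Quotient.mk (I ^ (m + 1)) (Z p.1) :=
  ⟨Module.Basis.mk (linearIndependent_vFam I Z hZ H2 m) (span_vFam I Z H1 m),
    fun p => by rw [Module.Basis.mk_apply]; rfl⟩

end abstract

end Groth.Agent.H5.PB
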