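import Mathlib
import Groth.Prelude.Def_PP16
import Groth.Agent.Lib.Helper5.SymPow.E
import Groth.Agent.Lib.Helper5.GrSym.L
import Groth.Agent.Lib.Helper5.QR.C
import Groth.Agent.Lib.Helper5.PB.A

set_option autoImplicit false

namespace Groth.Agent.H5.PB

open TensorProduct MvPolynomial

universe u

section count

variable {ι' : Type*} [Fintype ι'] {κ : Type*}

lemma degree_count (a : ι' → κ) : (SymPow.count a).degree = Fintype.card ι' := by
  classical
  rw [SymPow.count, map_sum]
  simp

end count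

section diag

variable (A B : Type u) [CommRing A] [CommRing B] [Algebra A B]
  {ι : Type} [Fintype ι] (z : ι → B)

local notation "II" => KaehlerDifferential.ideal A B

/-- The monomials in the `1 ⊗ z_i - z_i ⊗ 1`. -/
noncomputable def Zm (p : ι → ℕ) : B ⊗[A] B := ∏ i, ((GrSym.δ A B (z i) : II) : B ⊗[A] B) ^ p i

lemma Zm_mem (p : ι → ℕ) : Zm A B z p ∈ II ^ (∑ i, p i) := by
  rw [Zm, ← Finset.prod_pow_eq_pow_sum]
  exact Ideal.prod_mem_prod fun i _ => Ideal.pow_mem_pow (GrSym.δ A B (z i)).2 _

variable (b : Module.Basis ι B (KaehlerDifferential.ideal A B).Cotangent)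
  (hb : ∀ i, b i = (KaehlerDifferential.ideal A B).toCotangent (GrSym.δ A B (z i)))
  {ι' : Type u} [Fintype ι']
  (φ : Sym[B] ι' (KaehlerDifferential.ideal A B).Cotangent →ₗ[B]
    (↥(GrSym.Nn A B (Fintype.card ι')) ⧸
      (GrSym.Nn A B (Fintype.card ι' + 1)).comap (GrSym.Nn A B (Fintype.card ι')).subtype))
  (hφ : ∀ x : ι' → KaehlerDifferential.ideal A B, φ (SymmetricPower.tprod B fun i => (KaehlerDifferential.ideal A B).toCotangent (x i)) =
    GrSym.cls (KaehlerDifferential.ideal A B) (GrSym.Nn A B (Fintype.card ι')) (GrSym.Nn A B (Fintype.card ι' + 1))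
      (GrSym.hNn A B _) (∏ i, (x i : B ⊗[A] B)) (GrSym.prod_mem (KaehlerDifferential.ideal A B) x))

lemma prod_delta_eq (a : ι' → ι) :
    ∏ l, ((GrSym.δ A B (z (a l)) : II) : B ⊗[A] B) = Zm A B z (fun i => SymPow.count a i) := by
  rw [SymPow.prod_comp_eq_prod_pow a (fun k => ((GrSym.δ A B (z k) : II) : B ⊗[A] B)),
    Finsupp.prod_fintype _ _ (fun i => pow_zero _)]
  rfl

include hb hφ in
lemma phi_tprod_basis (a : ι' → ι) :
    φ (SymmetricPower.tprod B fun l => b (a l)) =
      GrSym.cls (II) (GrSym.Nn A B (Fintype.card ι')) (GrSym.Nn A B (Fintype.card ι' + 1))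
        (GrSym.hNn A B _) (Zm A B z (fun i => SymPow.count a i))
        (by
          have := Zm_mem A B z (fun i => SymPow.count a i)
          rwa [← Finsupp.degree_eq_sum, degree_count] at this) := by
  have h1 : (fun l => b (a l)) = fun l => (II).toCotangent (GrSym.δ A B (z (a l))) := by
    funext l; rw [hb]
  rw [h1, hφ]
  exact GrSym.cls_congr' (II) _ _ _ (prod_delta_eq A B z a) _ _

include hb hφ in
/-- B1: the value of `φ` is the class of a combination of monomials of the right degree. -/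
lemma exists_phi_eq (w : Sym[B] ι' (II).Cotangent) :
    ∃ c ∈ Finsupp.supported B B (degSet ι (Fintype.card ι')),
      ∃ h : E (B := B) (Zm A B z) c ∈ II ^ Fintype.card ι',
        φ w = GrSym.cls (II) (GrSym.Nn A B (Fintype.card ι')) (GrSym.Nn A B (Fintype.card ι' + 1))
          (GrSym.hNn A B _) (E (B := B) (Zm A B z) c) h := by
  have hw : w ∈ Submodule.span B (Set.range fun a : ι' → ι =>
      SymmetricPower.tprod B (fun l => b (a l))) := by
    rw [SymPow.span_tprod_comp (ι := ι') b b.span_eq]; trivial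
  refine Submodule.span_induction ?_ ?_ ?_ ?_ hw
  · rintro _ ⟨a, rfl⟩
    have hE : E (B := B) (Zm A B z) (Finsupp.single (fun i => SymPow.count a i) 1) =
        Zm A B z (fun i => SymPow.count a i) := by
      rw [E, Finsupp.linearCombination_single, one_smul]
    refine ⟨Finsupp.single (fun i => SymPow.count a i) 1, ?_, ?_, ?_⟩
    · rw [Finsupp.mem_supported]
      intro p hp
      have := Finsupp.support_single_subset hp
      rw [Finset.mem_singleton] at this
      subst this
      change ∑ i, SymPow.count a i = Fintype.card ι'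
      rw [← Finsupp.degree_eq_sum, degree_count]
    · rw [hE]
      have := Zm_mem A B z (fun i => SymPow.count a i)
      rwa [← Finsupp.degree_eq_sum, degree_count] at this
    · rw [phi_tprod_basis A B z b hb φ hφ a]
      exact GrSym.cls_congr' (II) _ _ _ hE.symm _ _
  · refine ⟨0, Submodule.zero_mem _, by rw [map_zero]; exact Ideal.zero_mem _, ?_⟩
    rw [map_zero]
    exact GrSym.cls_congr' (II) _ _ _ (map_zero _).symm (Ideal.zero_mem _) _
  · rintro x y _ _ ⟨cx, hcx, hx, hx'⟩ ⟨cy, hcy, hy, hy'⟩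
    refine ⟨cx + cy, Submodule.add_mem _ hcx hcy, by rw [map_add]; exact Ideal.add_mem _ hx hy, ?_⟩
    rw [map_add, hx', hy', ← GrSym.cls_add]
    exact GrSym.cls_congr' (II) _ _ _ (map_add _ _ _).symm _ _
  · rintro r x _ ⟨cx, hcx, hx, hx'⟩
    refine ⟨r • cx, Submodule.smul_mem _ _ hcx, by
      rw [map_smul, Algebra.smul_def]; exact Ideal.mul_mem_left _ _ hx, ?_⟩
    rw [map_smul, hx', ← GrSym.cls_smul]
    exact GrSym.cls_congr' (II) _ _ _ (map_smul _ _ _).symm _ _

include hb hφ in
/-- B2: approximation in degree `card ι'`. -/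
lemma H1_pos (hsurj : Function.Surjective φ) (x : B ⊗[A] B) (hx : x ∈ II ^ Fintype.card ι') :
    ∃ c ∈ Finsupp.supported B B (degSet ι (Fintype.card ι')),
      x - E (B := B) (Zm A B z) c ∈ II ^ (Fintype.card ι' + 1) := by
  obtain ⟨w, hw⟩ := hsurj (GrSym.cls (II) (GrSym.Nn A B (Fintype.card ι'))
    (GrSym.Nn A B (Fintype.card ι' + 1)) (GrSym.hNn A B _) x hx)
  obtain ⟨c, hc, h, hφw⟩ := exists_phi_eq A B z b hb φ hφ w
  refine ⟨c, hc, ?_⟩
  rw [hw] at hφw
  rw [GrSym.cls, GrSym.cls, Submodule.Quotient.eq, Submodule.mem_comap] at hφw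
  exact hφw

end diag

end Groth.Agent.H5.PB
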