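import Mathlib
import Groth.Prelude.Def_PP16
import Groth.Agent.Lib.Helper5.PB.B

set_option autoImplicit false

namespace Groth.Agent.H5.PB

open TensorProduct MvPolynomial

universe u

section diag

variable (A B : Type u) [CommRing A] [CommRing B] [Algebra A B]
  {ι : Type} [Fintype ι] (z : ι → B)

local notation "II" => KaehlerDifferential.ideal A B

variable (b : Module.Basis ι B (KaehlerDifferential.ideal A B).Cotangent)
  (hb : ∀ i, b i = (KaehlerDifferential.ideal A B).toCotangent (GrSym.δ A B (z i)))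
  {ι' : Type u} [Fintype ι']
  (φ : Sym[B] ι' (KaehlerDifferential.ideal A B).Cotangent →ₗ[B]
    (↥(GrSym.Nn A B (Fintype.card ι')) ⧸
      (GrSym.Nn A B (Fintype.card ι' + 1)).comap (GrSym.Nn A B (Fintype.card ι')).subtype))
  (hφ : ∀ x : ι' → KaehlerDifferential.ideal A B,
    φ (SymmetricPower.tprod B fun i => (KaehlerDifferential.ideal A B).toCotangent (x i)) =
    GrSym.cls (KaehlerDifferential.ideal A B) (GrSym.Nn A B (Fintype.card ι'))
      (GrSym.Nn A B (Fintype.card ι' + 1))
      (GrSym.hNn A B _) (∏ i, (x i : B ⊗[A] B))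
      (GrSym.prod_mem (KaehlerDifferential.ideal A B) x))

/-- The multi-index `p` as a finitely supported function. -/
noncomputable def fs (p : ι → ℕ) : ι →₀ ℕ := Finsupp.equivFunOnFinite.symm p

lemma fs_apply (p : ι → ℕ) (i : ι) : fs p i = p i := rfl

lemma fs_degree (p : ι → ℕ) : (fs p).degree = ∑ i, p i := by
  rw [Finsupp.degree_eq_sum]; rfl

lemma fs_injective : Function.Injective (fs (ι := ι)) :=
  Finsupp.equivFunOnFinite.symm.injective

include hb hφ in
lemma phi_repFam (p : ι → ℕ) (hp : ∑ i, p i = Fintype.card ι') :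
    φ (SymPow.repFam (R := B) (ι := ι') (fun i => b i) (fs p)) =
      GrSym.cls (II) (GrSym.Nn A B (Fintype.card ι')) (GrSym.Nn A B (Fintype.card ι' + 1))
        (GrSym.hNn A B _) (Zm A B z p) (hp ▸ Zm_mem A B z p) := by
  obtain ⟨a, ha, hrep⟩ := SymPow.repFam_of_degree (R := B) (ι := ι') (fun i => b i) (fs p)
    (by rw [fs_degree, hp])
  rw [hrep, phi_tprod_basis A B z b hb φ hφ a]
  apply GrSym.cls_congr' (II)
  congr 1
  funext i
  rw [ha]
  rfl

lemma theta_repFam (p : ι → ℕ) (hp : ∑ i, p i = Fintype.card ι') :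
    SymPow.theta (B₀ := B) (ι := ι') b
      (SymPow.repFam (R := B) (ι := ι') (fun i => b i) (fs p)) = monomial (fs p) 1 := by
  obtain ⟨a, ha, hrep⟩ := SymPow.repFam_of_degree (R := B) (ι := ι') (fun i => b i) (fs p)
    (by rw [fs_degree, hp])
  rw [hrep, SymPow.theta_tprod_basis, ha]

include hb hφ in
/-- B3: independence in degree `card ι'`. -/
lemma H2_pos [Nonempty ι'] (hinj : Function.Injective φ) (c : (ι → ℕ) →₀ B)
    (hc : c ∈ Finsupp.supported B B (degSet ι (Fintype.card ι')))
    (hE : E (B := B) (Zm A B z) c ∈ II ^ (Fintype.card ι' + 1)) : c = 0 := by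
  classical
  have hdeg : ∀ p ∈ c.support, ∑ i, p i = Fintype.card ι' := fun p hp =>
    (Finsupp.mem_supported B c).mp hc hp
  let y : (ι → ℕ) → B ⊗[A] B := fun p => if ∑ i, p i = Fintype.card ι' then Zm A B z p else 0
  have hy : ∀ p, y p ∈ II ^ Fintype.card ι' := by
    intro p
    by_cases h : ∑ i, p i = Fintype.card ι'
    · simp only [y, if_pos h]
      exact h ▸ Zm_mem A B z p
    · simp only [y, if_neg h]
      exact Ideal.zero_mem _
  set w : Sym[B] ι' (II).Cotangent :=
    ∑ p ∈ c.support, c p • SymPow.repFam (R := B) (ι := ι') (fun i => b i) (fs p) with hw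
  have hφw : φ w = 0 := by
    rw [hw, map_sum]
    have h1 : ∀ p ∈ c.support,
        φ (c p • SymPow.repFam (R := B) (ι := ι') (fun i => b i) (fs p)) =
        c p • GrSym.cls (II) (GrSym.Nn A B (Fintype.card ι')) (GrSym.Nn A B (Fintype.card ι' + 1))
          (GrSym.hNn A B _) (y p) (hy p) := by
      intro p hp
      rw [map_smul, phi_repFam A B z b hb φ hφ p (hdeg p hp)]
      congr 1
      apply GrSym.cls_congr' (II)
      simp only [y, if_pos (hdeg p hp)]
    rw [Finset.sum_congr rfl h1, QR.cls_sum (II) (GrSym.Nn A B (Fintype.card ι'))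
      (GrSym.Nn A B (Fintype.card ι' + 1)) (GrSym.hNn A B _) c.support (fun p => c p) y hy]
    apply GrSym.cls_eq_zero (II) _ _ (GrSym.hNn A B _) (GrSym.hNn A B _)
    have : ∑ p ∈ c.support, c p • y p = E (B := B) (Zm A B z) c := by
      rw [E, Finsupp.linearCombination_apply, Finsupp.sum]
      refine Finset.sum_congr rfl fun p hp => ?_
      simp only [y, if_pos (hdeg p hp)]
    rw [this]
    exact hE
  have hw0 : w = 0 := hinj (by rw [hφw, map_zero])
  have hθ := congrArg (SymPow.theta (B₀ := B) (ι := ι') b) hw0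
  rw [hw, map_sum, map_zero] at hθ
  have hθ2 : ∑ p ∈ c.support, c p • (monomial (fs p) (1 : B)) = 0 := by
    rw [← hθ]
    refine Finset.sum_congr rfl fun p hp => ?_
    rw [map_smul, theta_repFam A B b p (hdeg p hp)]
  ext p₀
  by_cases hp₀ : p₀ ∈ c.support
  swap
  · rw [Finsupp.notMem_support_iff.mp hp₀]; rfl
  have hc0 := congrArg (MvPolynomial.coeff (fs p₀)) hθ2
  rw [MvPolynomial.coeff_sum, MvPolynomial.coeff_zero, Finset.sum_eq_single p₀] at hc0
  · rw [MvPolynomial.coeff_smul, MvPolynomial.coeff_monomial, if_pos rfl, smul_eq_mul,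
      mul_one] at hc0
    exact hc0
  · intro p _ hne
    rw [MvPolynomial.coeff_smul, MvPolynomial.coeff_monomial,
      if_neg (fun h => hne (fs_injective h)), smul_zero]
  · intro h; exact absurd hp₀ h

end diag

end Groth.Agent.H5.PB
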