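import Mathlib
import Groth.Prelude.Def_PP16
import Groth.Agent.Lib.Helper5.PB.C

set_option autoImplicit false

namespace Groth.Agent.H5.PB

open TensorProduct MvPolynomial

universe u

section diag

variable (A B : Type u) [CommRing A] [CommRing B] [Algebra A B]
  {ι : Type} [Fintype ι] (z : ι → B)

local notation "II" => KaehlerDifferential.ideal A B

lemma Zm_zero : Zm A B z (0 : ι → ℕ) = 1 := by
  simp [Zm]

lemma eq_zero_of_mem_degSet_zero (p : ι → ℕ) (hp : p ∈ degSet ι 0) : p = 0 := by
  have h : ∑ i, p i = 0 := hp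
  funext i
  exact (Finset.sum_eq_zero_iff.mp h) i (Finset.mem_univ i)

lemma H1_zero (x : B ⊗[A] B) :
    ∃ c ∈ Finsupp.supported B B (degSet ι 0),
      x - E (B := B) (Zm A B z) c ∈ II ^ (0 + 1) := by
  refine ⟨Finsupp.single 0 (Algebra.TensorProduct.lmul' A x), ?_, ?_⟩
  · rw [Finsupp.mem_supported]
    intro p hp
    have := Finsupp.support_single_subset hp
    rw [Finset.mem_singleton] at this
    subst this
    change ∑ i : ι, (0 : ι → ℕ) i = 0
    simp
  · rw [E, Finsupp.linearCombination_single, Zm_zero, zero_add, pow_one, Algebra.smul_def, mul_one]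
    exact GrSym.sub_algebraMap_lmul_mem A B x

lemma H2_zero (c : (ι → ℕ) →₀ B) (hc : c ∈ Finsupp.supported B B (degSet ι 0))
    (hE : E (B := B) (Zm A B z) c ∈ II ^ (0 + 1)) : c = 0 := by
  classical
  have hc' : c = Finsupp.single 0 (c 0) := by
    ext p
    by_cases hp : p = 0
    · subst hp; simp
    · rw [Finsupp.single_apply, if_neg (Ne.symm hp)]
      by_contra hne
      exact hp (eq_zero_of_mem_degSet_zero p ((Finsupp.mem_supported B c).mp hc
        (Finsupp.mem_support_iff.mpr hne)))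
  rw [hc', E, Finsupp.linearCombination_single, Zm_zero, zero_add, pow_one, Algebra.smul_def,
    mul_one, GrSym.algebraMap_mem_ideal_iff] at hE
  rw [hc', hE, Finsupp.single_zero]

variable (b : Module.Basis ι B (KaehlerDifferential.ideal A B).Cotangent)
  (hb : ∀ i, b i = (KaehlerDifferential.ideal A B).toCotangent (GrSym.δ A B (z i)))

include b hb in
theorem exists_basis_P (hB : PP16.IsDiffSmooth A B) (m : ℕ) :
    ∃ bb : Module.Basis {p : ι → ℕ // ∑ i, p i ≤ m} B ((B ⊗[A] B) ⧸ II ^ (m + 1)),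
      ∀ p, bb p = Ideal.Quotient.mk (II ^ (m + 1)) (Zm A B z p.1) := by
  have hcls := GrSym.clsBijective_of_isDiffSmooth A B hB
  apply exists_basis (B := B) II (Zm A B z) (Zm_mem A B z)
  · intro k x hx
    rcases Nat.eq_zero_or_pos k with rfl | hk
    · exact H1_zero A B z x
    · haveI : Nonempty (ULift.{u} (Fin k)) := ⟨⟨⟨0, hk⟩⟩⟩
      obtain ⟨φ, hφ, hbij⟩ := hcls (ULift.{u} (Fin k))
      have hcard : Fintype.card (ULift.{u} (Fin k)) = k := by simp
      have := H1_pos A B z b hb φ hφ hbij.2 x (by rw [hcard]; exact hx)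
      rwa [hcard] at this
  · intro k c hc hE
    rcases Nat.eq_zero_or_pos k with rfl | hk
    · exact H2_zero A B z c hc hE
    · haveI : Nonempty (ULift.{u} (Fin k)) := ⟨⟨⟨0, hk⟩⟩⟩
      obtain ⟨φ, hφ, hbij⟩ := hcls (ULift.{u} (Fin k))
      have hcard : Fintype.card (ULift.{u} (Fin k)) = k := by simp
      exact H2_pos A B z b hb φ hφ hbij.1 c (by rw [hcard]; exact hc) (by rw [hcard]; exact hE)

end diag

end Groth.Agent.H5.PB
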