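import Mathlib
import Groth.Prelude.Def_PP16
import Groth.Agent.Lib.Helper5.PB.D

set_option autoImplicit false

namespace Groth.Agent.H5.PB

open TensorProduct MvPolynomial

universe u

section diag

variable (A B : Type u) [CommRing A] [CommRing B] [Algebra A B]
  {ι : Type} [Fintype ι] (z : ι → B)

local notation "II" => KaehlerDifferential.ideal A B

variable (b : Module.Basis ι B (KaehlerDifferential.ideal A B).Cotangent)
  (hb : ∀ i, b i = (KaehlerDifferential.ideal A B).toCotangent (GrSym.δ A B (z i)))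
  {ι' : Type u} [Fintype ι']
  (φ : Sym[B] ι' (KaehlerDifferential.ideal A B).Cotangent →ₗ[B]
    (↥(GrSym.Nn A B (Fintype.card ι')) ⧸
      (GrSym.Nn A B (Fintype.card ι' + 1)).comap (GrSym.Nn A B (Fintype.card ι')).subtype))
  (hφ : ∀ x : ι' → KaehlerDifferential.ideal A B,
    φ (SymmetricPower.tprod B fun i => (KaehlerDifferential.ideal A B).toCotangent (x i)) =
    GrSym.cls (KaehlerDifferential.ideal A B) (GrSym.Nn A B (Fintype.card ι'))
      (GrSym.Nn A B (Fintype.card ι' + 1))
      (GrSym.hNn A B _) (∏ i, (x i : B ⊗[A] B))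
      (GrSym.prod_mem (KaehlerDifferential.ideal A B) x))

/-- The combination of representatives attached to a family of coefficients. -/
noncomputable def Wc (ι' : Type u) [Fintype ι'] :
    ((ι → ℕ) →₀ B) →ₗ[B] Sym[B] ι' (KaehlerDifferential.ideal A B).Cotangent :=
  Finsupp.linearCombination B
    (fun p => SymPow.repFam (R := B) (ι := ι') (fun i => b i) (fs p))

include hb hφ in
/-- B1': every element is a combination of representatives, compatibly with `φ`. -/
lemma exists_phi_eq' (w : Sym[B] ι' (II).Cotangent) :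
    ∃ c ∈ Finsupp.supported B B (degSet ι (Fintype.card ι')),
      ∃ h : E (B := B) (Zm A B z) c ∈ II ^ Fintype.card ι',
        w = Wc A B b ι' c ∧
        φ w = GrSym.cls (II) (GrSym.Nn A B (Fintype.card ι')) (GrSym.Nn A B (Fintype.card ι' + 1))
          (GrSym.hNn A B _) (E (B := B) (Zm A B z) c) h := by
  have hw : w ∈ Submodule.span B (Set.range fun a : ι' → ι =>
      SymmetricPower.tprod B (fun l => b (a l))) := by
    rw [SymPow.span_tprod_comp (ι := ι') b b.span_eq]; trivial
  refine Submodule.span_induction ?_ ?_ ?_ ?_ hw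
  · rintro _ ⟨a, rfl⟩
    have hE : E (B := B) (Zm A B z) (Finsupp.single (fun i => SymPow.count a i) 1) =
        Zm A B z (fun i => SymPow.count a i) := by
      rw [E, Finsupp.linearCombination_single, one_smul]
    refine ⟨Finsupp.single (fun i => SymPow.count a i) 1, ?_, ?_, ?_, ?_⟩
    · rw [Finsupp.mem_supported]
      intro p hp
      have := Finsupp.support_single_subset hp
      rw [Finset.mem_singleton] at this
      subst this
      change ∑ i, SymPow.count a i = Fintype.card ι'
      rw [← Finsupp.degree_eq_sum, degree_count]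
    · rw [hE]
      have := Zm_mem A B z (fun i => SymPow.count a i)
      rwa [← Finsupp.degree_eq_sum, degree_count] at this
    · rw [Wc, Finsupp.linearCombination_single, one_smul]
      have : fs (fun i => SymPow.count a i) = SymPow.count a := by
        ext i; rfl
      rw [this, SymPow.repFam_count]
    · rw [phi_tprod_basis A B z b hb φ hφ a]
      exact GrSym.cls_congr' (II) _ _ _ hE.symm _ _
  · refine ⟨0, Submodule.zero_mem _, by rw [map_zero]; exact Ideal.zero_mem _, by rw [map_zero], ?_⟩
    rw [map_zero]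
    exact GrSym.cls_congr' (II) _ _ _ (map_zero _).symm (Ideal.zero_mem _) _
  · rintro x y _ _ ⟨cx, hcx, hx, hxW, hx'⟩ ⟨cy, hcy, hy, hyW, hy'⟩
    refine ⟨cx + cy, Submodule.add_mem _ hcx hcy, by rw [map_add]; exact Ideal.add_mem _ hx hy,
      by rw [map_add, ← hxW, ← hyW], ?_⟩
    rw [map_add, hx', hy', ← GrSym.cls_add]
    exact GrSym.cls_congr' (II) _ _ _ (map_add _ _ _).symm _ _
  · rintro r x _ ⟨cx, hcx, hx, hxW, hx'⟩
    refine ⟨r • cx, Submodule.smul_mem _ _ hcx, by
      rw [map_smul, Algebra.smul_def]; exact Ideal.mul_mem_left _ _ hx,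
      by rw [map_smul, ← hxW], ?_⟩
    rw [map_smul, hx', ← GrSym.cls_smul]
    exact GrSym.cls_congr' (II) _ _ _ (map_smul _ _ _).symm _ _

include b hb in
/-- Converse of the basis theorem: a basis `dz_i` together with independence of the monomials
in every degree gives differential smoothness. -/
theorem isDiffSmooth_of_H2
    (H2 : ∀ (k : ℕ), 1 ≤ k → ∀ (c : (ι → ℕ) →₀ B), c ∈ Finsupp.supported B B (degSet ι k) →
      E (B := B) (Zm A B z) c ∈ II ^ (k + 1) → c = 0) :
    PP16.IsDiffSmooth A B := by
  haveI : Module.Projective B (KaehlerDifferential A B) :=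
    Module.Projective.of_basis (b : Module.Basis ι B (KaehlerDifferential A B))
  apply GrSym.isDiffSmooth_of_cls
  intro ι' _ _
  obtain ⟨φ, hφ⟩ := GrSym.exists_canonical (B₀ := B) (ι := ι') II (GrSym.Nn A B (Fintype.card ι'))
      (GrSym.Nn A B (Fintype.card ι' + 1)) (GrSym.hNn A B _) (GrSym.hNn A B _)
  have hφ' : ∀ x : ι' → II, φ (SymmetricPower.tprod B fun i => (II).toCotangent (x i)) =
        GrSym.cls (II) (GrSym.Nn A B (Fintype.card ι')) (GrSym.Nn A B (Fintype.card ι' + 1))
          (GrSym.hNn A B _) (∏ i, (x i : B ⊗[A] B)) (GrSym.prod_mem (II) x) := hφ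
  refine ⟨φ, hφ', ?_, ?_⟩
  · rw [injective_iff_map_eq_zero]
    intro w hw
    obtain ⟨c, hc, h, hwW, hφw⟩ := exists_phi_eq' A B z b hb φ hφ' w
    rw [hw] at hφw
    have hmem := (GrSym.cls_eq_zero_iff (II) _ _ (GrSym.hNn A B _) (GrSym.hNn A B _) _ h).mp
      hφw.symm
    have hc0 := H2 (Fintype.card ι') Fintype.card_pos c hc hmem
    rw [hwW, hc0, map_zero]
  · exact GrSym.surjective_of_pinned II _ _ (GrSym.hNn A B _) (GrSym.hNn A B _)
        (fun s => ⟨_, GrSym.sub_rho_mem A B s⟩) φ hφ'

end diag

end Groth.Agent.H5.PB
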