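import Mathlib
import Groth.Prelude.Def_PP16
import Groth.Prelude.Def_DiffOp
import Groth.Agent.Lib.Helper2.DiffBasis
import Groth.Agent.Lib.Helper5.PB.E

set_option autoImplicit false

namespace Groth.Agent.H5.PB

open TensorProduct
open Groth.Agent.LD Groth.Agent.H2.DiffBasis

universe u

section diag

variable (A B : Type u) [CommRing A] [CommRing B] [Algebra A B]
  {ι : Type} [Fintype ι] [DecidableEq ι] (z : ι → B)

local notation "II" => KaehlerDifferential.ideal A B

lemma Zm_eq_zetaPow (p : ι → ℕ) : Zm A B z p = zetaPow (A := A) z p := rfl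

variable (hz : Submodule.span B (Set.range fun i => KaehlerDifferential.D A B (z i)) = ⊤)
  (Dp : (ι → ℕ) → (B →ₗ[A] B)) (hD : ∀ p, ∃ k : ℕ, Diff16.IsDiffOpLE A B B B k (Dp p))
  (hDz : ∀ p q : ι → ℕ, Dp p (∏ i, z i ^ q i) =
        ((∏ i, Nat.choose (q i) (p i) : ℕ) : B) * ∏ i, z i ^ (q i - p i))

lemma linearize_E (D : B →ₗ[A] B) (c : (ι → ℕ) →₀ B) :
    Diff16.linearize A B B B D (E (B := B) (Zm A B z) c) =
      ∑ p ∈ c.support, c p • coeff z p D := by
  rw [E, Finsupp.linearCombination_apply, Finsupp.sum, map_sum]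
  refine Finset.sum_congr rfl fun p _ => ?_
  rw [Algebra.smul_def, Algebra.TensorProduct.algebraMap_apply, Algebra.algebraMap_self,
    RingHom.id_apply, linearize_left_mul]
  rfl

include hz hD hDz in
theorem H2_of_family (k : ℕ) (c : (ι → ℕ) →₀ B)
    (hc : c ∈ Finsupp.supported B B (degSet ι k))
    (hE : E (B := B) (Zm A B z) c ∈ II ^ (k + 1)) : c = 0 := by
  ext p₀
  by_cases hp₀ : p₀ ∈ c.support
  swap
  · rw [Finsupp.notMem_support_iff.mp hp₀]; rfl
  have hdeg : ∑ i, p₀ i = k := (Finsupp.mem_supported B c).mp hc hp₀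
  have hord := order_Dp z hz Dp hD hDz k p₀ hdeg
  rw [isDiffOpLE_iff_vanishes] at hord
  have h0 := hord _ hE
  rw [linearize_E, Finset.sum_eq_single p₀] at h0
  · rw [coeff_Dp z hz Dp hD hDz _ p₀ p₀ rfl, if_pos rfl, smul_eq_mul, mul_one] at h0
    exact h0
  · intro p _ hne
    rw [coeff_Dp z hz Dp hD hDz _ p p₀ rfl, if_neg hne, smul_zero]
  · intro h; exact absurd hp₀ h

include hz hD hDz in
theorem linearIndependent_of_family :
    LinearIndependent B (fun i => (II).toCotangent (GrSym.δ A B (z i))) := by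
  rw [Fintype.linearIndependent_iff]
  intro g hg j
  -- the element Σ gᵢ ζᵢ lies in I²
  have hx : ∑ i, (algebraMap B (B ⊗[A] B) (g i)) • GrSym.δ A B (z i) ∈
      (⊤ : Submodule (B ⊗[A] B) II) := trivial
  have h1 : (II).toCotangent (∑ i, (algebraMap B (B ⊗[A] B) (g i)) • GrSym.δ A B (z i)) = 0 := by
    rw [map_sum, ← hg]
    refine Finset.sum_congr rfl fun i _ => ?_
    rw [map_smul, algebraMap_smul]
  rw [Ideal.toCotangent_eq_zero] at h1
  have h2 : ∑ i, (g i ⊗ₜ[A] (1 : B)) * zetaPow (A := A) z (Pi.single i 1) ∈ II ^ 2 := by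
    convert h1 using 1
    rw [Submodule.coe_sum]
    refine Finset.sum_congr rfl fun i _ => ?_
    rw [zetaPow_single]
    rfl
  have hord := order_Dp z hz Dp hD hDz 1 (Pi.single j 1) (by simp)
  rw [isDiffOpLE_iff_vanishes] at hord
  have h0 := hord _ h2
  rw [map_sum, Finset.sum_eq_single j] at h0
  · rw [linearize_left_mul] at h0
    have := coeff_Dp z hz Dp hD hDz _ (Pi.single j 1) (Pi.single j 1) rfl
    rw [coeff, cLin_apply, if_pos rfl] at this
    rw [this, smul_eq_mul, mul_one] at h0
    exact h0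
  · intro i _ hne
    rw [linearize_left_mul]
    have := coeff_Dp z hz Dp hD hDz _ (Pi.single i 1) (Pi.single j 1) rfl
    rw [coeff, cLin_apply, if_neg] at this
    · rw [this, smul_zero]
    · intro h
      apply hne
      by_contra hij
      have := congrFun h i
      rw [Pi.single_eq_same, Pi.single_eq_of_ne hij] at this
      exact one_ne_zero this
  · intro h; exact absurd (Finset.mem_univ j) h

include hz hD hDz in
theorem isDiffSmooth_and_basis_of_family :
    PP16.IsDiffSmooth A B ∧
      ∃ b : Module.Basis ι B (KaehlerDifferential A B), ∀ i, b i = KaehlerDifferential.D A B (z i) := by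
  have hli := linearIndependent_of_family A B z hz Dp hD hDz
  let b : Module.Basis ι B (II).Cotangent := Module.Basis.mk hli hz.ge
  have hb : ∀ i, b i = (II).toCotangent (GrSym.δ A B (z i)) := fun i => Module.Basis.mk_apply _ _ i
  refine ⟨isDiffSmooth_of_H2 A B z b hb (fun k _ c hc hE =>
    H2_of_family A B z hz Dp hD hDz k c hc hE), b, hb⟩

end diag

end Groth.Agent.H5.PB
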