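import Mathlib
import Groth.Prelude.Def_PP16
import Groth.Prelude.Def_DiffOp
import Groth.Agent.Lib.Helper5.PB.F

set_option autoImplicit false

namespace Groth.Agent.H5.PB

open TensorProduct
open Groth.Agent.LD Groth.Agent.H2.DiffBasis

universe u

section expand

variable {B S' : Type*} [CommRing B] [CommRing S'] [Algebra B S']
  {ι : Type*} [Fintype ι] [DecidableEq ι]

/-- Multi-variable binomial expansion. -/
lemma prod_add_pow (ζ : ι → S') (z : ι → B) (q : ι → ℕ) :
    ∏ i, (ζ i + algebraMap B S' (z i)) ^ q i =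
      ∑ j ∈ Fintype.piFinset (fun i => Finset.range (q i + 1)),
        (∏ i, ((Nat.choose (q i) (j i) : ℕ) : B) * z i ^ (q i - j i)) • ∏ i, ζ i ^ j i := by
  have h1 : ∀ i, (ζ i + algebraMap B S' (z i)) ^ q i =
      ∑ m ∈ Finset.range (q i + 1),
        ζ i ^ m * algebraMap B S' (z i) ^ (q i - m) * ((q i).choose m : S') := fun i => add_pow _ _ _
  rw [Finset.prod_congr rfl fun i _ => h1 i, Finset.prod_univ_sum]
  refine Finset.sum_congr rfl fun j _ => ?_
  rw [Algebra.smul_def, map_prod, ← Finset.prod_mul_distrib]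
  refine Finset.prod_congr rfl fun i _ => ?_
  rw [map_mul, map_pow, map_natCast]
  ring

end expand

section diag

variable (A B : Type u) [CommRing A] [CommRing B] [Algebra A B]
  {ι : Type} [Fintype ι] [DecidableEq ι] (z : ι → B)

local notation "II" => KaehlerDifferential.ideal A B

variable (m : ℕ) (u : ((B ⊗[A] B) ⧸ (KaehlerDifferential.ideal A B) ^ (m + 1)) →ₗ[B] B)

/-- The differential operator attached to a `B`-linear form on the principal parts. -/
noncomputable def opOf : B →ₗ[A] B :=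
  (u.restrictScalars A) ∘ₗ ((Ideal.Quotient.mkₐ A (II ^ (m + 1))).toLinearMap ∘ₗ
    (Algebra.TensorProduct.includeRight : B →ₐ[A] B ⊗[A] B).toLinearMap)

lemma opOf_apply (x : B) : opOf A B m u x = u (Ideal.Quotient.mk (II ^ (m + 1)) ((1 : B) ⊗ₜ[A] x)) :=
  rfl

lemma linearize_opOf (x : B ⊗[A] B) :
    Diff16.linearize A B B B (opOf A B m u) x = u (Ideal.Quotient.mk (II ^ (m + 1)) x) := by
  induction x using TensorProduct.induction_on with
  | zero => simp
  | tmul b c =>
    rw [linearize_tmul, opOf_apply, ← map_smul]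
    congr 1
    rw [Algebra.smul_def]
    change Ideal.Quotient.mk (II ^ (m + 1)) (b ⊗ₜ[A] (1 : B)) *
      Ideal.Quotient.mk (II ^ (m + 1)) ((1 : B) ⊗ₜ[A] c) = _
    rw [← map_mul, Algebra.TensorProduct.tmul_mul_tmul, mul_one, one_mul]
  | add x y hx hy => rw [map_add, map_add, map_add, hx, hy]

lemma isDiffOpLE_opOf : Diff16.IsDiffOpLE A B B B m (opOf A B m u) := by
  rw [isDiffOpLE_iff_vanishes]
  intro x hx
  rw [linearize_opOf, Ideal.Quotient.eq_zero_iff_mem.mpr hx, map_zero]

end diag

end Groth.Agent.H5.PB
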