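import Mathlib
import Groth.Prelude.Def_PP16
import Groth.Prelude.Def_DiffOp
import Groth.Agent.Lib.Helper5.PB.G

set_option autoImplicit false

namespace Groth.Agent.H5.PB

open TensorProduct
open Groth.Agent.LD Groth.Agent.H2.DiffBasis

universe u

section diag

variable (A B : Type u) [CommRing A] [CommRing B] [Algebra A B]
  {ι : Type} [Fintype ι] [DecidableEq ι] (z : ι → B)

local notation "II" => KaehlerDifferential.ideal A B

lemma one_tmul_prod_eq (q : ι → ℕ) :
    (1 : B) ⊗ₜ[A] (∏ i, z i ^ q i) =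
      ∑ j ∈ Fintype.piFinset (fun i => Finset.range (q i + 1)),
        (∏ i, ((Nat.choose (q i) (j i) : ℕ) : B) * z i ^ (q i - j i)) • Zm A B z j := by
  have h : (1 : B) ⊗ₜ[A] (∏ i, z i ^ q i) =
      ∏ i, (((GrSym.δ A B (z i) : II) : B ⊗[A] B) + algebraMap B (B ⊗[A] B) (z i)) ^ q i := by
    rw [← Algebra.TensorProduct.includeRight_apply, map_prod]
    refine Finset.prod_congr rfl fun i _ => ?_
    rw [map_pow]
    congr 1
    rw [Algebra.TensorProduct.algebraMap_apply, Algebra.algebraMap_self, RingHom.id_apply,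
      Algebra.TensorProduct.includeRight_apply]
    change _ = ((1 : B) ⊗ₜ[A] z i - z i ⊗ₜ[A] (1 : B)) + _
    ring
  rw [h, prod_add_pow]
  rfl

variable (m : ℕ) (bb : Module.Basis {p : ι → ℕ // ∑ i, p i ≤ m} B
    ((B ⊗[A] B) ⧸ (KaehlerDifferential.ideal A B) ^ (m + 1)))
  (hbb : ∀ p, bb p = Ideal.Quotient.mk ((KaehlerDifferential.ideal A B) ^ (m + 1)) (Zm A B z p.1))

include hbb in
lemma coord_mk_Zm (p : {p : ι → ℕ // ∑ i, p i ≤ m}) (j : ι → ℕ) (hpj : ∑ i, p.1 i ≤ ∑ i, j i) :
    bb.coord p (Ideal.Quotient.mk (II ^ (m + 1)) (Zm A B z j)) = if j = p.1 then 1 else 0 := by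
  by_cases hj : ∑ i, j i ≤ m
  · rw [← hbb ⟨j, hj⟩, Module.Basis.coord_apply, Module.Basis.repr_self, Finsupp.single_apply]
    by_cases h : j = p.1
    · rw [if_pos h, if_pos (Subtype.ext h)]
    · rw [if_neg h, if_neg (fun h' => h (congrArg Subtype.val h'))]
  · have hmem : Zm A B z j ∈ II ^ (m + 1) :=
      Ideal.pow_le_pow_right (by omega) (Zm_mem A B z j)
    rw [Ideal.Quotient.eq_zero_iff_mem.mpr hmem, map_zero, if_neg]
    intro h
    apply hj
    rw [h]
    exact p.2

include hbb in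
lemma opOf_coord_prod (p : ι → ℕ) (hp : ∑ i, p i = m) (q : ι → ℕ) :
    opOf A B m (bb.coord ⟨p, hp.le⟩) (∏ i, z i ^ q i) =
      ((∏ i, Nat.choose (q i) (p i) : ℕ) : B) * ∏ i, z i ^ (q i - p i) := by
  rw [opOf_apply, one_tmul_prod_eq, map_sum, map_sum]
  have hterm : ∀ j ∈ Fintype.piFinset (fun i => Finset.range (q i + 1)),
      bb.coord ⟨p, hp.le⟩ (Ideal.Quotient.mk (II ^ (m + 1))
        ((∏ i, ((Nat.choose (q i) (j i) : ℕ) : B) * z i ^ (q i - j i)) • Zm A B z j)) =
      if j = p then (∏ i, ((Nat.choose (q i) (j i) : ℕ) : B) * z i ^ (q i - j i)) else 0 := by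
    intro j _
    by_cases hle : ∑ i, p i ≤ ∑ i, j i
    · have h1 : Ideal.Quotient.mk (II ^ (m + 1))
          ((∏ i, ((Nat.choose (q i) (j i) : ℕ) : B) * z i ^ (q i - j i)) • Zm A B z j) =
          (∏ i, ((Nat.choose (q i) (j i) : ℕ) : B) * z i ^ (q i - j i)) •
            Ideal.Quotient.mk (II ^ (m + 1)) (Zm A B z j) := by
        rw [Algebra.smul_def, Algebra.smul_def, map_mul]
        rfl
      rw [h1, map_smul, coord_mk_Zm A B z m bb hbb ⟨p, hp.le⟩ j hle]
      split_ifs <;> simp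
    · -- then `j ≠ p` and the class has degree below `m`; use the basis directly
      have hj : ∑ i, j i ≤ m := by omega
      have h1 : Ideal.Quotient.mk (II ^ (m + 1))
          ((∏ i, ((Nat.choose (q i) (j i) : ℕ) : B) * z i ^ (q i - j i)) • Zm A B z j) =
          (∏ i, ((Nat.choose (q i) (j i) : ℕ) : B) * z i ^ (q i - j i)) • bb ⟨j, hj⟩ := by
        rw [hbb, Algebra.smul_def, Algebra.smul_def, map_mul]
        rfl
      have hne : j ≠ p := by
        intro h; apply hle; rw [h]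
      rw [h1, map_smul, Module.Basis.coord_apply, Module.Basis.repr_self, Finsupp.single_apply,
        if_neg (fun h' => hne (congrArg Subtype.val h')), if_neg hne, smul_zero]
  rw [Finset.sum_congr rfl hterm]
  by_cases hpq : p ∈ Fintype.piFinset (fun i => Finset.range (q i + 1))
  · rw [Finset.sum_ite_eq' _ p, if_pos hpq, Nat.cast_prod, ← Finset.prod_mul_distrib]
  · rw [Finset.sum_ite_eq' _ p, if_neg hpq]
    rw [Fintype.mem_piFinset] at hpq
    push Not at hpq
    obtain ⟨i, hi⟩ := hpq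
    rw [Finset.mem_range] at hi
    have : Nat.choose (q i) (p i) = 0 := Nat.choose_eq_zero_of_lt (by omega)
    rw [Finset.prod_eq_zero (Finset.mem_univ i) this]
    simp

end diag

end Groth.Agent.H5.PB
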