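import Mathlib
import Groth.Prelude.Def_PP16
import Groth.Prelude.Def_DiffOp
import Groth.Agent.Lib.Helper5.PB.G2

set_option autoImplicit false

namespace Groth.Agent.H5.PB

open TensorProduct
open Groth.Agent.LD Groth.Agent.H2.DiffBasis

universe u

section diag

variable (A B : Type u) [CommRing A] [CommRing B] [Algebra A B]
  {ι : Type} [Fintype ι] [DecidableEq ι] (z : ι → B)

local notation "II" => KaehlerDifferential.ideal A B

theorem exists_family_of_isDiffSmooth (hB : PP16.IsDiffSmooth A B)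
    (b : Module.Basis ι B (KaehlerDifferential A B))
    (hb : ∀ i, b i = KaehlerDifferential.D A B (z i)) :
    ∃ Dp : (ι → ℕ) → (B →ₗ[A] B),
      (∀ p, ∃ k : ℕ, Diff16.IsDiffOpLE A B B B k (Dp p)) ∧
      ∀ p q : ι → ℕ, Dp p (∏ i, z i ^ q i) =
        ((∏ i, Nat.choose (q i) (p i) : ℕ) : B) * ∏ i, z i ^ (q i - p i) := by
  choose bb hbb using fun m => exists_basis_P A B z (b : Module.Basis ι B (II).Cotangent) hb hB m
  refine ⟨fun p => opOf A B (∑ i, p i) ((bb (∑ i, p i)).coord ⟨p, le_rfl⟩), fun p => ?_,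
    fun p q => ?_⟩
  · exact ⟨_, isDiffOpLE_opOf A B _ _⟩
  · exact opOf_coord_prod A B z _ (bb _) (hbb _) p rfl q

theorem main (hz : Submodule.span B (Set.range fun i => KaehlerDifferential.D A B (z i)) = ⊤) :
    (PP16.IsDiffSmooth A B ∧
        ∃ b : Module.Basis ι B (KaehlerDifferential A B), ∀ i, b i = KaehlerDifferential.D A B (z i)) ↔
      ∃ Dp : (ι → ℕ) → (B →ₗ[A] B),
        (∀ p, ∃ k : ℕ, Diff16.IsDiffOpLE A B B B k (Dp p)) ∧
        ∀ p q : ι → ℕ, Dp p (∏ i, z i ^ q i) =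
          ((∏ i, Nat.choose (q i) (p i) : ℕ) : B) * ∏ i, z i ^ (q i - p i) := by
  constructor
  · rintro ⟨hB, b, hb⟩
    exact exists_family_of_isDiffSmooth A B z hB b hb
  · rintro ⟨Dp, hD, hDz⟩
    exact isDiffSmooth_and_basis_of_family A B z hz Dp hD hDz

end diag

end Groth.Agent.H5.PB
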