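import Mathlib
import Groth.Prelude.Def_PP16
import Groth.Agent.Lib.Helper5.PB.D

set_option autoImplicit false

namespace Groth.Agent.H5.PB

open TensorProduct MvPolynomial

universe u

section poly

variable (A B : Type u) [CommRing A] [CommRing B] [Algebra A B]
  {ι : Type} [Fintype ι] [DecidableEq ι] (z : ι → B)

local notation "II" => KaehlerDifferential.ideal A B

variable (m : ℕ) (bb : Module.Basis {p : ι → ℕ // ∑ i, p i ≤ m} B
    ((B ⊗[A] B) ⧸ (KaehlerDifferential.ideal A B) ^ (m + 1)))
  (hbb : ∀ p, bb p = Ideal.Quotient.mk ((KaehlerDifferential.ideal A B) ^ (m + 1)) (Zm A B z p.1))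

/-- The `B`-algebra map `B[U] → P^m`, `U_i ↦ ζ_i`. -/
noncomputable def Phi : MvPolynomial ι B →ₐ[B] ((B ⊗[A] B) ⧸ II ^ (m + 1)) :=
  aeval (fun i => Ideal.Quotient.mk (II ^ (m + 1)) ((GrSym.δ A B (z i) : II) : B ⊗[A] B))

lemma Phi_monomial (d : ι →₀ ℕ) (c : B) :
    Phi A B z m (monomial d c) = c • Ideal.Quotient.mk (II ^ (m + 1)) (Zm A B z (fun i => d i)) := by
  rw [Phi, aeval_monomial, Finsupp.prod_fintype _ _ (fun i => pow_zero _), Algebra.smul_def, Zm,
    map_prod]
  simp only [map_pow]

include hbb in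
lemma coord_mk_Zm' (p : {p : ι → ℕ // ∑ i, p i ≤ m}) (j : ι → ℕ) :
    bb.coord p (Ideal.Quotient.mk (II ^ (m + 1)) (Zm A B z j)) = if j = p.1 then 1 else 0 := by
  by_cases hj : ∑ i, j i ≤ m
  · rw [← hbb ⟨j, hj⟩, Module.Basis.coord_apply, Module.Basis.repr_self, Finsupp.single_apply]
    by_cases h : j = p.1
    · rw [if_pos h, if_pos (Subtype.ext h)]
    · rw [if_neg h, if_neg (fun h' => h (congrArg Subtype.val h'))]
  · have hmem : Zm A B z j ∈ II ^ (m + 1) :=
      Ideal.pow_le_pow_right (by omega) (Zm_mem A B z j)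
    rw [Ideal.Quotient.eq_zero_iff_mem.mpr hmem, map_zero, if_neg]
    intro h
    apply hj
    rw [h]
    exact p.2

include hbb in
lemma coord_Phi (p : {p : ι → ℕ // ∑ i, p i ≤ m}) (F : MvPolynomial ι B) :
    bb.coord p (Phi A B z m F) = F.coeff (fs p.1) := by
  conv_lhs => rw [F.as_sum, map_sum, map_sum]
  by_cases hp : fs p.1 ∈ F.support
  · rw [Finset.sum_eq_single (fs p.1)]
    · rw [Phi_monomial, map_smul, coord_mk_Zm' A B z m bb hbb,
        if_pos (show (fun i => (fs p.1) i) = p.1 from rfl), smul_eq_mul, mul_one]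
    · intro d _ hne
      rw [Phi_monomial, map_smul, coord_mk_Zm' A B z m bb hbb, if_neg, smul_zero]
      intro h
      apply hne
      ext i
      exact congrFun h i
    · intro h; exact absurd hp h
  · rw [notMem_support_iff.mp hp]
    refine Finset.sum_eq_zero fun d hd => ?_
    rw [Phi_monomial, map_smul, coord_mk_Zm' A B z m bb hbb, if_neg, smul_zero]
    intro h
    apply hp
    have : d = fs p.1 := by
      ext i
      exact congrFun h i
    rw [← this]
    exact hd

include hbb in
theorem Phi_surjective : Function.Surjective (Phi A B z m) := by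
  have hrange : ∀ p, bb p ∈ LinearMap.range (Phi A B z m).toLinearMap := by
    intro p
    refine ⟨monomial (fs p.1) 1, ?_⟩
    rw [AlgHom.toLinearMap_apply, Phi_monomial, one_smul, hbb]
    rfl
  have htop : LinearMap.range (Phi A B z m).toLinearMap = ⊤ := by
    rw [eq_top_iff, ← bb.span_eq, Submodule.span_le]
    rintro _ ⟨p, rfl⟩
    exact hrange p
  intro y
  have : y ∈ LinearMap.range (Phi A B z m).toLinearMap := by rw [htop]; trivial
  exact this

include hbb in
theorem ker_Phi : RingHom.ker (Phi A B z m).toRingHom =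
    (Ideal.span (Set.range (X : ι → MvPolynomial ι B))) ^ (m + 1) := by
  ext F
  change Phi A B z m F = 0 ↔ F ∈ idealOfVars ι B ^ (m + 1)
  rw [mem_pow_idealOfVars_iff']
  constructor
  · intro h d hd
    have hd' : ∑ i, d i ≤ m := by
      rw [← Finsupp.degree_eq_sum]; omega
    have := coord_Phi A B z m bb hbb ⟨fun i => d i, hd'⟩ F
    rw [h, map_zero] at this
    have hfs : fs (fun i => d i) = d := by ext i; rfl
    rw [hfs] at this
    exact this.symm
  · intro h
    rw [F.as_sum, map_sum]
    refine Finset.sum_eq_zero fun d hd => ?_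
    have hdeg : ¬ d.degree < m + 1 := fun hlt => (mem_support_iff.mp hd) (h d hlt)
    have hmem : Zm A B z (fun i => d i) ∈ II ^ (m + 1) := by
      refine Ideal.pow_le_pow_right ?_ (Zm_mem A B z (fun i => d i))
      rw [← Finsupp.degree_eq_sum]; omega
    rw [Phi_monomial, Ideal.Quotient.eq_zero_iff_mem.mpr hmem, smul_zero]

end poly

end Groth.Agent.H5.PB
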