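import Mathlib
import Groth.Prelude.Def_PP16
import Groth.Agent.Lib.Helper5.PB.H

set_option autoImplicit false

namespace Groth.Agent.H5.PB

open TensorProduct MvPolynomial

universe u

section frac

variable (k : Type u) [Field k] (r : ℕ)

local notation "Pk" => MvPolynomial (Fin r) k
local notation "Kk" => FractionRing (MvPolynomial (Fin r) k)

instance formallySmooth_fractionRing : Algebra.FormallySmooth k Kk := by
  haveI : Algebra.FormallyEtale Pk Kk :=
    Algebra.FormallyEtale.of_isLocalization (nonZeroDivisors Pk)
  exact Algebra.FormallySmooth.comp k Pk _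

/-- The basis `dT_i` of the differentials of the rational function field. -/
noncomputable def fracBasis : Module.Basis (Fin r) Kk (KaehlerDifferential k Kk) :=
  Module.Basis.ofIsLocalizedModule Kk (nonZeroDivisors Pk) (KaehlerDifferential.map k k Pk Kk)
    (KaehlerDifferential.mvPolynomialBasis k (Fin r))

lemma fracBasis_apply (i : Fin r) :
    fracBasis k r i = KaehlerDifferential.D k Kk (algebraMap Pk Kk (X i)) := by
  rw [fracBasis, Module.Basis.ofIsLocalizedModule_apply, KaehlerDifferential.mvPolynomialBasis_apply,
    KaehlerDifferential.map_D]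

theorem frac_main (n : ℕ) :
    Function.Surjective (Phi k Kk (fun i => algebraMap Pk Kk (X i)) n) ∧
      RingHom.ker (Phi k Kk (fun i => algebraMap Pk Kk (X i)) n).toRingHom =
        (Ideal.span (Set.range (X : Fin r → MvPolynomial (Fin r) Kk))) ^ (n + 1) := by
  have hB : PP16.IsDiffSmooth k Kk := GrSym.isDiffSmooth_of_formallySmooth k Kk
  obtain ⟨bb, hbb⟩ := exists_basis_P k Kk (fun i => algebraMap Pk Kk (X i))
    (fracBasis k r : Module.Basis (Fin r) Kk (KaehlerDifferential.ideal k Kk).Cotangent)
    (fracBasis_apply k r) hB n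
  exact ⟨Phi_surjective k Kk _ n bb hbb, ker_Phi k Kk _ n bb hbb⟩

end frac

end Groth.Agent.H5.PB
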